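import Cfsg.Agent.Lib.Rk3.Basic

/-!
The triangle of normal subgroups of `T` in the non-abelian case: common lemmas.
-/

set_option autoImplicit false

namespace CfsgLib.Rk3

open Subgroup Cfsg CfsgLib.Tech CfsgLib.W2

variable {G : Type*} [Group G]

/-- one half of the data -/
structure Half (T U A B C : Subgroup G) (z u s : G) : Prop where
  zz : z * z = 1
  z1 : z ≠ 1
  uz : u ≠ z
  mU : ∀ x, x ∈ U ↔ x = 1 ∨ x = z ∨ x = u ∨ x = z * u
  el : El U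
  UA : U ≤ A
  AT : A ≤ T
  cU : ∀ t ∈ T, ∀ y ∈ U, t * y = y * t
  An : ∀ t ∈ T, ∀ a ∈ A, t * a * t⁻¹ ∈ A
  Asq : ∀ a ∈ A, a * a = 1 ∨ a * a = z
  Ac : ∀ a ∈ A, ∀ b ∈ A, Cz z a b
  ss : s * s = 1
  sT : ∀ t ∈ T, s * t * s⁻¹ ∈ T
  sz : s * z * s⁻¹ = z
  su : s * u * s⁻¹ = z * u
  sA : ∀ a ∈ A, Cz z s a
  sC : ∀ b, s * b * s⁻¹ ∈ C ↔ b ∈ B
  sm : ∀ t ∈ T, s * t * s⁻¹ * t⁻¹ ∈ A
  e16 : ∀ a ∈ T, ∀ b ∈ T, a * a = 1 → b * b = 1 → b * a = a * b → a ∉ U → b ∈ U ∨ b * a ∈ U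

/-- `⟨U, e⟩` is normal in `T` -/
structure N0 (T U : Subgroup G) (e : G) : Prop where
  eT : e ∈ T
  ee : e * e = 1
  nU : e ∉ U
  nm : ∀ t ∈ T, cm t e ∈ U

theorem exists_four {k : G} (n : ℕ) (hn : k ^ 2 ^ n = 1) (h : k * k ≠ 1) :
    ∃ j ∈ zpowers k, j * j ≠ 1 ∧ j * j * (j * j) = 1 := by
  induction n generalizing k with
  | zero => exact absurd (by simpa using hn) (by rintro rfl; simp at h)
  | succ n ih =>
    by_cases h1 : k * k * (k * k) = 1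
    · exact ⟨k, mem_zpowers k, h, h1⟩
    obtain ⟨j, hj, h2⟩ := ih (k := k * k) (by rw [← sq, ← pow_mul, ← pow_succ', hn]) h1
    exact ⟨j, zpowers_le.2 (mul_mem (mem_zpowers k) (mem_zpowers k)) hj, h2⟩

theorem conj_of_cm {t e y : G} (ee : e * e = 1) (h : cm t e = y) : t * e * t⁻¹ = y * e := by
  rw [← h, cm, mul_assoc _ e e, ee, mul_one]

theorem cm_of_conj {t e y : G} (ee : e * e = 1) (h : t * e * t⁻¹ = y * e) : cm t e = y := by
  rw [cm, h, mul_assoc, ee, mul_one]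

theorem conj_of_comm {t e : G} (h : t * e = e * t) : t * e * t⁻¹ = e := by
  rw [h, mul_inv_cancel_right]

namespace Half

variable {T U A B C : Subgroup G} {z u s r e : G} (h : Half T U A B C z u s)
include h

theorem zU : z ∈ U := (h.mU z).2 (by simp)

theorem uU : u ∈ U := (h.mU u).2 (by simp)

theorem UT : U ≤ T := h.UA.trans h.AT

theorem si : s⁻¹ = s := inv_eq_of_mul_eq_one_right h.ss

theorem back (x : G) : s * (s * x * s⁻¹) * s⁻¹ = x := by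
  calc _ = (s * s) * x * (s * s)⁻¹ := by group
    _ = x := by rw [h.ss]; simp

theorem uu : u * u = 1 := h.el u h.uU

theorem zu : u * z = z * u := h.el.comm h.uU h.zU

theorem u1 : u ≠ 1 := by
  rintro rfl
  exact h.z1 (by simpa using h.su.symm)

theorem zu1 : z * u ≠ 1 := fun e => h.uz (by
  rw [eq_inv_of_mul_eq_one_right e, inv_eq_of_mul_eq_one_right h.zz])

theorem mv {t y : G} (ht : t ∈ T) (hy : y ∈ U) (w : G) : t * (y * w) = y * (t * w) := by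
  rw [← mul_assoc, h.cU t ht y hy, mul_assoc]

theorem cjU {t y : G} (ht : t ∈ T) (hy : y ∈ U) : t * y * t⁻¹ = y := conj_of_comm (h.cU t ht y hy)

theorem szu : s * (z * u) * s⁻¹ = u := by rw [← h.su, h.back]

theorem sU {y : G} (hy : y ∈ U) : s * y * s⁻¹ ∈ U := by
  rcases (h.mU y).1 hy with rfl | rfl | rfl | rfl
  · simp
  · rwa [h.sz]
  · rw [h.su]; exact mul_mem h.zU hy
  · rw [h.szu]; exact h.uU

theorem fixU {y : G} (hy : y ∈ U) (e : s * y * s⁻¹ = y) : y = 1 ∨ y = z := by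
  rcases (h.mU y).1 hy with rfl | rfl | rfl | rfl
  exacts [Or.inl rfl, Or.inr rfl, absurd (mul_eq_right.1 (h.su.symm.trans e)) h.z1,
    absurd (mul_eq_right.1 (e.symm.trans h.szu)) h.z1]

theorem sq_mul {t y : G} (ht : t ∈ T) (hy : y ∈ U) : y * t * (y * t) = t * t := by
  rw [mul_assoc, h.mv ht hy, ← mul_assoc, h.el y hy, one_mul]

theorem cm_of_mem (eT : e ∈ T) (ee : e * e = 1) {t e' : G} (ht : t ∈ T) (h1 : e' * e ∈ U) :
    cm t e' = cm t e := by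
  rw [← cm_adj (h.el _ h1) (h.cU t ht _ h1) (h.cU e eT _ h1), mul_assoc, ee, mul_one]

theorem cm_mul (n : N0 T U e) {a b : G} (ha : a ∈ T) (hb : b ∈ T) :
    cm (a * b) e = cm a e * cm b e := by
  rw [Rk3.cm_mul n.ee (h.cU a ha _ (n.nm b hb)), h.el.comm (n.nm b hb) (n.nm a ha)]

theorem cm_inv (n : N0 T U e) {a : G} (ha : a ∈ T) : cm a⁻¹ e = cm a e := by
  have := h.cm_mul n (inv_mem ha) ha
  rw [inv_mul_cancel, (cm_eq_one n.ee).2 (by simp)] at this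
  rw [eq_inv_of_mul_eq_one_left this.symm, inv_eq_of_mul_eq_one_right (h.el _ (n.nm a ha))]

theorem cm_U (n : N0 T U e) {y : G} (hy : y ∈ U) : cm y e = 1 :=
  (cm_eq_one n.ee).2 (h.cU e n.eT y hy).symm

theorem cm_s (n : N0 T U e) (hs : cm s e ∈ U) {t : G} (ht : t ∈ T) :
    cm (s * t * s⁻¹) e = s * cm t e * s⁻¹ := by
  rw [cm_conj, h.cm_of_mem n.eT n.ee (h.sT t ht) hs]

theorem sA' {a : G} (ha : a ∈ A) : s * a * s⁻¹ ∈ A := by
  rcases h.sA a ha with e | e <;> rw [e]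
  exacts [ha, mul_mem (h.UA h.zU) ha]

theorem AC (hB : U ≤ B) {x : G} (hA : x ∈ A) (hC : x ∈ C) : x ∈ B := by
  have := (h.sC (s * x * s⁻¹)).1 (by rwa [h.back])
  rcases h.sA x hA with e | e <;> rw [e] at this
  exacts [this, (mul_mem_cancel_left (hB h.zU)).1 this]

theorem ABC {x : G} (hB : U ≤ B) (hA : x ∈ A) (hx : x ∈ B) : x ∈ C := by
  have := (h.sC (s * x * s⁻¹)).2 (by
    rcases h.sA x hA with e | e <;> rw [e]
    exacts [hx, mul_mem (hB h.zU) hx])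
  rwa [h.back] at this

/-- an involution normalising `⟨U, e⟩` centralises `e` modulo `z` -/
theorem cm_se (n : N0 T U e) (hs : cm s e ∈ U) : cm s e = 1 ∨ cm s e = z := by
  refine h.fixU hs ?_
  rw [cm_conj, mul_inv_cancel_right, cm, h.back, ← inv_eq_of_mul_eq_one_right (h.el _ hs),
    Rk3.cm_inv n.ee h.ss, cm, h.si, inv_eq_of_mul_eq_one_right n.ee]
  simp only [mul_assoc]

theorem g0 (n : N0 T U e) (hs : cm s e ∈ U) (on : ∀ y ∈ U, ∃ t ∈ T, cm t e = y) :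
    ∃ a ∈ A, a * e ≠ e * a := by
  by_contra! hc
  obtain ⟨t, ht, e1⟩ := on u h.uU
  have h1 := inv_mem (h.sm t ht)
  have h2 : t * s * t⁻¹ = (s * t * s⁻¹ * t⁻¹)⁻¹ * s := by group
  have h3 : cm (t * s * t⁻¹) e = cm s e := by
    rw [h2, Rk3.cm_mul n.ee (h.cU _ (h.AT h1) _ hs), (cm_eq_one n.ee).2 (hc _ h1), mul_one]
  have h4 : t * s * t⁻¹ * u * (t * s * t⁻¹)⁻¹ = z * u := by
    calc _ = t * (s * (t⁻¹ * u * t⁻¹⁻¹) * s⁻¹) * t⁻¹ := by group
      _ = _ := by rw [h.cjU (inv_mem ht) h.uU, h.su, h.cjU ht (mul_mem h.zU h.uU)]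
  have h5 := cm_conj t s e
  have h6 : cm (t * s * t⁻¹) (u * e) = z * cm s e := by
    rw [cm, ← conj_mul, h4, conj_of_cm n.ee h3]
    generalize cm s e = y at hs
    rw [mul_assoc, mul_assoc y, h.mv n.eT h.uU, n.ee, mul_one, h.el.comm hs h.uU, mul_assoc,
      ← mul_assoc u, h.uu, one_mul]
  rw [h.cjU ht hs, conj_of_cm n.ee e1, h6] at h5
  exact h.z1 (mul_eq_right.1 h5.symm)

theorem fix_sq (n : N0 T U e) (hs : cm s e ∈ U) (hA : ∀ a ∈ A, a * e = e * a → a ∈ U ∨ a * e ∈ U)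
    {k : G} (hk : k ∈ T) (ke : k * e = e * k) : s * (k * k) * s⁻¹ = k * k := by
  have h1 : cm (s * k * s⁻¹ * k⁻¹) e = 1 := by
    rw [h.cm_mul n (h.sT k hk) (inv_mem hk), h.cm_inv n hk, h.cm_s n hs hk, (cm_eq_one n.ee).2 ke]
    simp
  rw [← conj_mul, ← inv_mul_cancel_right (s * k * s⁻¹) k]
  rcases hA _ (h.sm k hk) ((cm_eq_one n.ee).1 h1) with h2 | h2
  · exact h.sq_mul hk h2
  · generalize s * k * s⁻¹ * k⁻¹ = m at h2
    rw [show m * k = m * e * (e * k) by rw [mul_assoc, ← mul_assoc e, n.ee, one_mul],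
      h.sq_mul (mul_mem n.eT hk) h2, mul_assoc, ← mul_assoc k, ke, mul_assoc, ← mul_assoc, n.ee, one_mul]

theorem fin (h' : Half T U B A C u z r) (pg : IsPGroup 2 T) (n : N0 T U e) (hs : cm s e ∈ U)
    (hr : cm r e ∈ U) (on : ∀ y ∈ U, ∃ t ∈ T, cm t e = y)
    (hA : ∀ a ∈ A, a * e = e * a → a ∈ U ∨ a * e ∈ U)
    (hB : ∀ a ∈ B, a * e = e * a → a ∈ U ∨ a * e ∈ U) {k : G} (hk : k ∈ T) (ke : k * e = e * k) :
    k ∈ U ∨ k * e ∈ U := by
  by_cases kk : k * k = 1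
  · exact h.e16 e n.eT k hk n.ee kk ke n.nU
  exfalso
  obtain ⟨m, hm⟩ := isPGroup_iff_mem.1 pg k hk
  obtain ⟨j, hj, h1, h2⟩ := exists_four m hm kk
  have jT := zpowers_le.2 hk hj
  have je : j * e = e * j := mem_Cx.1 (zpowers_le.2 (mem_Cx.2 ke) hj)
  have h3 := h.fix_sq n hs hA jT je
  rcases h.e16 e n.eT _ (mul_mem jT jT) n.ee h2 (by rw [mul_assoc, je, ← mul_assoc, je, mul_assoc])
    n.nU with h4 | h4
  · rcases h.fixU h4 h3 with e1 | e1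
    · exact h1 e1
    · exact h.uz (((h'.fixU h4 (h'.fix_sq n hr hB jT je)).resolve_left h1).symm.trans e1)
  · obtain ⟨t, ht, e1⟩ := on u h.uU
    have h5 := h.fix_sq n hs hA (mul_mem (mul_mem ht jT) (inv_mem ht)) ((cm_eq_one n.ee).1 (by
      rw [h.cm_mul n (mul_mem ht jT) (inv_mem ht), h.cm_mul n ht jT, h.cm_inv n ht,
        (cm_eq_one n.ee).2 je, mul_one, h.el _ (n.nm t ht)]))
    rw [conj_mul, conj_of_cm h2 ((h.cm_of_mem n.eT n.ee ht h4).trans e1), ← conj_mul, h.su, h3] at h5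
    exact h.z1 (mul_eq_right.1 (mul_right_cancel h5))

end Half

end CfsgLib.Rk3
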