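import Cfsg.Agent.Lib.Rk3.B0

/-!
The case that the normal closure of `U` in `C(z)` is abelian of order eight.
-/

set_option autoImplicit false

namespace CfsgLib.Rk3

open Subgroup Cfsg CfsgLib.Tech CfsgLib.W2

variable {G : Type*} [Group G] [Finite G] {S : Subgroup G} {z u g e : G}

theorem exists_fix {F : Subgroup G} (el : El F) (h8 : 8 ≤ Nat.card F) {z t : G} (zz : z * z = 1)
    (hn : ∀ f ∈ F, z * f * z⁻¹ ∈ F) (ht : t ∈ F) : ∃ f ∈ F, f ≠ 1 ∧ f ≠ t ∧ z * f = f * z := by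
  classical
  by_contra! h
  have h0 : ∀ f ∈ F, z * f = f * z → f = 1 ∨ f = t := fun f hf e => by
    by_contra! h1
    exact h f hf h1.1 h1.2 e
  have h1 : ∀ f ∈ F, z * f = f * z ∨ z * f * z⁻¹ = t * f := fun f hf => by
    refine (h0 _ (mul_mem (hn f hf) hf) (mul_inv_eq_iff_eq_mul.1 ?_)).imp (cm_eq_one (el f hf)).1
      (conj_of_cm (el f hf))
    calc _ = (z * z) * f * (z * z)⁻¹ * (z * f * z⁻¹) := by group
      _ = _ := by rw [zz, el.comm (hn f hf) hf]; simp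
  have h2 : ∀ a ∈ F, F ≤ V2 t a → False := fun a ha h3 => by
    have h4 : (F : Set G) ⊆ ({1, t, a, t * a} : Finset G) := fun x hx => by
      simpa using (mem_V2 (el t ht) (el a ha) (el.comm ht ha)).1 (h3 hx)
    have := Set.ncard_le_ncard h4
    rw [← Nat.card_coe_set_eq, Set.ncard_coe_finset] at this
    exact absurd ((h8.trans this).trans Finset.card_le_four) (by norm_num)
  by_cases h3 : ∃ a ∈ F, z * a * z⁻¹ = t * a
  · obtain ⟨a, ha, e⟩ := h3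
    refine h2 a ha fun f hf => ?_
    rcases h1 f hf with e1 | e1
    · rcases h0 f hf e1 with rfl | rfl
      exacts [one_mem _, l_V2 _ _]
    · rw [← mul_mem_cancel_right (r_V2 t a)]
      rcases h0 _ (mul_mem hf ha) (mul_inv_eq_iff_eq_mul.1 (by
        rw [← conj_mul, e, e1, mul_assoc, ← mul_assoc f, el.comm hf ht, mul_assoc, ← mul_assoc,
          el t ht, one_mul])) with e2 | e2 <;> rw [e2]
      exacts [one_mem _, l_V2 _ _]
  · refine h2 1 (one_mem _) fun f hf => ?_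
    rcases h0 f hf ((h1 f hf).resolve_right fun e => h3 ⟨f, hf, e⟩) with rfl | rfl
    exacts [one_mem _, l_V2 _ _]

/-- `E = ⟨z, u, e⟩` is normal in `C(z)`, `U` is not -/
structure A2 (S : Subgroup G) (z u e k : G) : Prop extends NE S z u e where
  WE : W (V2 z u) z = V3 z u e
  kz : k ∈ Cx z
  ku : k * u * k⁻¹ ∉ V2 z u

theorem Cfg.exists_A2 (h : Hyp G) (c : Cfg S z u g) (h1 : ¬ W (V2 z u) z ≤ V2 z u)
    (h2 : W (V2 z u) z ≤ Cx u) : ∃ e k, A2 S z u e k := by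
  have hz : W (V2 z u) z ≤ Cx z := W_le_Cx (V2_le.2 ⟨mem_Cx.2 rfl, mem_Cx.2 c.zu.symm⟩)
  have el : El (W (V2 z u) z) := el_closure (by
    rintro _ ⟨k, -, a, ha, rfl⟩; rw [conj_mul, c.elU a ha]; simp) (by
    rintro x hx _ ⟨k, hk, a, ha, rfl⟩
    have h3 := W_conj (inv_mem hk) (subset_closure hx : x ∈ W (V2 z u) z)
    have h4 := conj_mem_Cx (g := k).2 ((V2_le (M := Cx _)).2 ⟨Cx_comm.1 (hz h3), Cx_comm.1 (h2 h3)⟩ ha)
    rw [show k * (k⁻¹ * x * k⁻¹⁻¹) * k⁻¹ = x by group] at h4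
    exact (mem_Cx.1 h4).symm)
  obtain ⟨k, hk, hu⟩ : ∃ k ∈ Cx z, k * u * k⁻¹ ∉ V2 z u := by
    by_contra! h3
    refine h1 (W_le fun k hk a ha => cj_le_iff.1 ?_ a ha)
    rw [cj_V2, mem_Cx'.1 hk]
    exact V2_le.2 ⟨l_V2 _ _, h3 k hk⟩
  have he := conj_mem_W hk (r_V2 z u)
  have h3 : W (V2 z u) z = V3 z u (k * u * k⁻¹) := (eq_of_le_of_card_ge
    (V3_le.2 ⟨le_W _ _ (l_V2 _ _), le_W _ _ (r_V2 _ _), he⟩) (by
      rw [card_V3 c.cardU (el _ he) (mem_Cx.1 (hz he)) (mem_Cx.1 (h2 he)) hu]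
      exact el.card_le h.rk)).symm
  refine ⟨_, k, ⟨(c.W_spec h).1 he, el _ he, mem_Cx.1 (h2 he), hu, fun s hs => ?_⟩, h3, hk, hu⟩
  refine ((mem_V3 (el _ he) (mem_Cx.1 (hz he)) (mem_Cx.1 (h2 he))).1
    (h3 ▸ W_conj (mem_Cx.2 (c.zc s hs)) he)).resolve_left fun h4 => hu ?_
  simpa [mul_assoc] using c.conj_U (inv_mem hs) h4

namespace A2

variable {k : G} (h : Hyp G) (c : Cfg S z u g) (n : A2 S z u e k)
include c n

theorem nH : Cx z ≤ normalizer (V3 z u e : Set G) := fun x hx =>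
  mem_normalizer_of_forall fun y hy => n.WE ▸ W_conj hx (n.WE ▸ hy)

include h

theorem not_inv : g * e * g⁻¹ ∉ V3 z u e := fun hg => by
  have el := n.elE c
  have gM : g ∈ normalizer (V3 z u e : Set G) := mem_normalizer_of_cj_le (by
    rw [cj_V3, c.gz, c.gu]
    exact V3_le.2 ⟨V2_le_V3 _ _ _ (r_V2 _ _), V2_le_V3 _ _ _ (mul_mem (l_V2 _ _) (r_V2 _ _)), hg⟩)
  have hS : ∀ s ∈ S, s ∈ normalizer (V3 z u e : Set G) := fun s hs => n.nH c (mem_Cx.2 (c.zc s hs))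
  have tr : ∀ y ∈ V3 z u e, y ≠ 1 → ∃ m ∈ normalizer (V3 z u e : Set G), m * z * m⁻¹ = y :=
    fun y hy y1 => by
      rcases (n.mem_E c).1 hy with h1 | h1
      · rcases c.mem_U.1 h1 with rfl | rfl | rfl | rfl
        exacts [absurd rfl y1, ⟨1, one_mem _, by simp⟩, ⟨g, gM, c.gz⟩,
          ⟨g * g, mul_mem gM gM, by rw [← c.gu, ← c.gz]; group⟩]
      · have h2 := ((n.mem_E c).1 (n.WE ▸ conj_mem_W n.kz (r_V2 z u))).resolve_left n.ku
        obtain ⟨t, ht, e1⟩ := n.onto h.rk c (mul_mem h1 (inv_mem h2))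
        refine ⟨t * k * g, mul_mem (mul_mem (hS t ht.1) (n.nH c n.kz)) gM, ?_⟩
        have uu : k * u * k⁻¹ * (k * u * k⁻¹) = 1 := by rw [conj_mul, c.uu]; simp
        calc _ = t * (k * (g * z * g⁻¹) * k⁻¹) * t⁻¹ := by group
          _ = y := by rw [c.gz, conj_of_cm uu ((n.cm_of_mem c ht h2).trans e1)]; group
  have ti : ∀ x, ∀ y ∈ V3 z u e, y ≠ 1 → x * y * x⁻¹ ∈ V3 z u e → x ∈ normalizer (V3 z u e : Set G) :=
    fun x y hy y1 hx => by
      obtain ⟨m, hm, rfl⟩ := tr y hy y1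
      obtain ⟨m', hm', e1⟩ := tr _ hx (by simpa using c.z1)
      have := n.nH c (x := m'⁻¹ * x * m) (mem_Cx'.2 (by
        calc _ = m'⁻¹ * (x * (m * z * m⁻¹) * x⁻¹) * m' := by group
          _ = z := by rw [← e1]; group))
      rwa [mul_mem_cancel_right hm, mul_mem_cancel_left (inv_mem hm')] at this
  have ES : V3 z u e ≤ S := V3_le.2 ⟨c.zS, c.uS, n.eS⟩
  obtain ⟨y, hy, x, tS, tE⟩ : ∃ y ∈ V3 z u e, ∃ x, x * y * x⁻¹ ∈ S ∧ x * y * x⁻¹ ∉ V3 z u e := by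
    by_contra! h1
    exact h.gold S _ c.syl (fun e1 => c.z1 (mem_bot.1 (e1 ▸ V2_le_V3 z u e (l_V2 z u)))) el ⟨ES, h1⟩
  have y1 : y ≠ 1 := by rintro rfl; exact tE (by simp)
  have tF := conj_mem_cj (g := x).2 hy
  have hF : ∀ f ∈ cj x (V3 z u e), f ∈ V3 z u e → f = 1 := by
    rintro _ ⟨f, hf, rfl⟩ h1
    by_contra h2
    exact tE (conj_mem_of_mem_normalizer (ti x f hf (by rintro rfl; simp at h2) h1) hy)
  have nF : ∀ b ∈ Cx (x * y * x⁻¹), ∀ f ∈ cj x (V3 z u e), b * f * b⁻¹ ∈ cj x (V3 z u e) :=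
    fun b hb f hf => by
      rw [← cj_Cx, mem_cj] at hb
      have := conj_mem_of_mem_normalizer (ti _ y hy y1 (by rwa [mem_Cx'.1 hb])) (mem_cj.1 hf)
      rw [mem_cj]
      convert this using 1; group
  have elF := el.cj x
  generalize x * y * x⁻¹ = t at *
  obtain ⟨b, hb, b1, bz, tb⟩ := exists_fix el (n.cardE c).ge (elF t tF)
    (fun f => conj_mem_of_mem_normalizer (hS t tS)) (V2_le_V3 z u e (l_V2 z u))
  obtain ⟨f, hf, f1, ft, zf⟩ := exists_fix elF (by rw [card_cj, n.cardE c]) c.zz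
    (nF z (mem_Cx.2 (c.zc t tS).symm)) tF
  have fb : f * b = b * f := (cm_eq_one (el b hb)).1 (hF _ (by
    have := mul_mem hf (nF b (mem_Cx.2 tb.symm) _ (inv_mem hf))
    rwa [inv_eq_of_mul_eq_one_right (el b hb), ← mul_assoc, ← mul_assoc] at this)
    (mul_mem (conj_mem_of_mem_normalizer (n.nH c (mem_Cx.2 zf.symm)) hb) hb))
  have hle : V2 z b ≤ V3 z u e := V2_le.2 ⟨V2_le_V3 z u e (l_V2 z u), hb⟩
  rcases e16 h.rk c.zz (el b hb) (elF t tF) (elF f hf) (c.zc b (ES hb)).symm (c.zc t tS) tb zf.symm fb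
    (elF.comm hf tF) c.z1 b1 bz (fun h1 => tE (hle h1)) with h1 | h1
  · exact f1 (hF f hf (hle h1))
  · exact ft (by rw [eq_inv_of_mul_eq_one_left (hF _ (mul_mem hf tF) (hle h1)),
      inv_eq_of_mul_eq_one_right (elF t tF)])

/-- the commutators of the three conjugates -/
theorem comms : cm (g * e * g⁻¹) e = z * u ∧ cm (g * (g * e * g⁻¹) * g⁻¹) (g * e * g⁻¹) = z ∧
    cm (g * (g * e * g⁻¹) * g⁻¹) e = u := by
  have n1 := n.next c
  have n2 := n1.next c.next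
  have T1 := conj_mem_of_mem_normalizer c.gT n.eT
  have T2 := conj_mem_of_mem_normalizer c.gT T1
  have W1 : W (V2 z u) u = cj g (V3 z u e) := by rw [← n.WE, cj_W, c.cj_g_U, c.gz]
  have W2 : W (V2 z u) (z * u) = cj g (cj g (V3 z u e)) := by rw [← W1, cj_W, c.cj_g_U, c.gu]
  have W3 : V3 z u e = cj g (cj g (cj g (V3 z u e))) := by rw [← W2, cj_W, c.cj_g_U, c.gzu, n.WE]
  have V := c.next.V2_eq.trans c.V2_eq
  have h1 : g * (g * (g * e * g⁻¹) * g⁻¹) * g⁻¹ * e ∈ V2 z u := by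
    refine ((n.mem_E c).1 ?_).resolve_left ?_
    · rw [W3]; exact conj_mem_cj.2 (conj_mem_cj.2 (conj_mem_cj.2 (r_V3 _ _ _)))
    · rw [← c.cj_g_U, conj_mem_cj, ← V]; exact n2.nU
  obtain ⟨s, hs, su⟩ := c.out
  have h2 : s * (g * e * g⁻¹) * s⁻¹ * (g * (g * e * g⁻¹) * g⁻¹) ∈ V2 z u := by
    rw [← V]
    refine ((n2.mem_E c.next.next).1 ?_).resolve_left ?_
    · have nU : cj s (V2 z u) = V2 z u :=
        mem_normalizer_iff_cj.1 (mem_normalizer_of_forall fun _ => c.conj_U hs)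
      have h3 := conj_mem_cj (g := s).2 (W1 ▸ conj_mem_cj (g := g).2 (r_V3 z u e))
      rwa [cj_W, nU, su, W2, cj_V3, cj_V3, c.gz, c.gu, ← conj_mul (b := g) (a := z), c.gz, c.gu] at h3
    · rw [V]
      exact fun h3 => n1.nU (by simpa [mul_assoc, c.V2_eq] using c.conj_U (inv_mem hs) h3)
  have h3 : cm (g * (g * e * g⁻¹) * g⁻¹) e = g * (g * cm (g * e * g⁻¹) e * g⁻¹) * g⁻¹ := by
    rw [cm_conj, cm_conj, ← cm_inv (n2.next c.next.next).ee n2.ee, n.cm_of_mem c T2 h1,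
      inv_eq_of_mul_eq_one_right (c.elU _ (n.nm _ T2.1))]
  have h4 : cm (g * (g * e * g⁻¹) * g⁻¹) e = s * cm (g * e * g⁻¹) e * s⁻¹ := by
    rw [← n.cm_conj c hs T1, ← mul_one (s * (g * e * g⁻¹) * s⁻¹), ← n2.ee,
      ← mul_assoc (s * (g * e * g⁻¹) * s⁻¹), n.cm_mul c (c.U_le h2) T2, (cm_eq_one n.ee).2 (c.cU n.eT h2).symm, one_mul]
  rw [← cm_conj]
  rcases c.mem_U.1 (n.nm _ T1.1) with e1 | e1 | e1 | e1
  · exact absurd (n.mem_of_comm c h.rk n1.ee (c.zc _ T1.1) (mem_Cx.1 T1.2) ((cm_eq_one n.ee).1 e1))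
      (n.not_inv h c)
  · rw [h4, cm, e1, c.gz, c.gu, conj_of_comm (c.zc s hs)] at h3
    exact absurd h3.symm c.zu_ne_z
  · rw [h4, cm, e1, c.gu, c.gzu, su] at h3
    exact absurd h3 c.zu_ne_z
  · rw [h3, cm, e1, c.gzu, c.gz]
    exact ⟨rfl, rfl, rfl⟩

theorem sq_eq {j : G} (hj : j ∈ S ⊓ Cx u) (je : j * e = e * j) (j1 : j * j ≠ 1)
    (j4 : j * j * (j * j) = 1) : j * j = z := by
  have n1 := n.next c
  have T1 := conj_mem_of_mem_normalizer c.gT n.eT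
  have key : ∀ j ∈ S ⊓ Cx u, j * e = e * j → j * j * (j * j) = 1 → j * j ∈ V2 z u :=
    fun j hj je j4 => by
      have h1 := mul_mem hj hj
      refine ((n.mem_E c).1 (n.mem_of_comm c h.rk j4 (c.zc _ h1.1) (mem_Cx.1 h1.2)
        (by rw [mul_assoc, je, ← mul_assoc, je, mul_assoc]))).resolve_right fun h2 => ?_
      have h3 := n1.cm_mul c.next (c.T_eq ▸ hj) (c.T_eq ▸ hj)
      rw [c.next.elU _ (n1.nm j (c.T_eq ▸ hj).1), cm_eq_one n1.ee, eq_comm, ← cm_eq_one j4,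
        n.cm_of_mem c T1 h2, (n.comms h c).1] at h3
      exact c.zu_ne_one h3
  have hS : IsSylowIn 2 S (Cx z) := c.syl.of_le (fun s hs => mem_Cx.2 (c.zc s hs)) le_top
  have hn : Cx z ≤ normalizer (centralizer (V3 z u e : Set G) : Set G) := fun x hx => by
    rw [mem_normalizer_iff_cj, cj_centralizer, mem_normalizer_iff_cj.1 (n.nH c hx)]
  have hC : ∀ x, x ∈ centralizer (V3 z u e : Set G) ↔ x ∈ Cx z ∧ x ∈ Cx u ∧ x ∈ Cx e := fun x => by
    rw [Cx_comm, Cx_comm (x := u), Cx_comm (x := e), ← V3_le]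
    exact ⟨fun h1 y hy => mem_Cx.2 (h1 y hy), fun h1 y hy => mem_Cx.1 (h1 hy)⟩
  have h1 := hS.inf_of_le_normalizer hn
  rw [inf_eq_right.2 (show _ ≤ Cx z from fun x hx => ((hC x).1 hx).1)] at h1
  obtain ⟨q, hq, h2⟩ := h1.frattini (hn n.kz)
  have h3 := conj_mem_of_mem_normalizer h2 (x := j) ⟨hj.1, (hC j).2 ⟨mem_Cx.2 (c.zc j hj.1), hj.2,
    mem_Cx.2 je⟩⟩
  have h4 := key _ ⟨h3.1, ((hC _).1 h3.2).2.1⟩ (mem_Cx.1 ((hC _).1 h3.2).2.2) (by
    rw [conj_mul, conj_mul, j4]; simp)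
  have h5 : q * k * u * (q * k)⁻¹ ∉ V2 z u := fun h5 => n.ku (by
    rwa [show q * k * u * (q * k)⁻¹ = q * (k * u * k⁻¹) * q⁻¹ by group,
      conj_of_comm (hq _ (n.WE ▸ conj_mem_W n.kz (r_V2 z u))).symm] at h5)
  rw [conj_mul] at h4
  rcases c.mem_U.1 (key j hj je j4) with e1 | e1 | e1 | e1
  exacts [absurd e1 j1, e1, absurd (e1 ▸ h4) h5, absurd (by
    rwa [e1, ← conj_mul, mem_Cx'.1 (mul_mem ((hC q).1 hq).1 n.kz),
      mul_mem_cancel_left (l_V2 z u)] at h4) h5]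

theorem fin : Fin' S z u := by
  obtain ⟨c1, c2, c3⟩ := n.comms h c
  have n1 := n.next c
  have n2 := n1.next c.next
  have T1 := conj_mem_of_mem_normalizer c.gT n.eT
  have T2 := conj_mem_of_mem_normalizer c.gT T1
  have sq1 : ∀ j ∈ S ⊓ Cx u, j * j = z → cm j (g * e * g⁻¹) ≠ 1 := fun j hj jj h1 => by
    have h2 : g⁻¹ * j * g * (g⁻¹ * j * g) = z * u := by
      calc _ = g⁻¹ * (j * j) * g := by group
        _ = _ := by rw [jj]; nth_rw 1 [← c.gzu]; group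
    refine c.zu_ne_z (h2.symm.trans (n.sq_eq h c (conj_mem_of_mem_normalizer' c.gT hj) ?_
      (h2 ▸ c.zu_ne_one) (by rw [h2]; exact c.next.uu)))
    simpa [mul_assoc] using congrArg (g⁻¹ * · * g) ((cm_eq_one n1.ee).1 h1)
  have sq2 : ∀ j ∈ S ⊓ Cx u, j * j = z → cm j (g * (g * e * g⁻¹) * g⁻¹) ≠ 1 := fun j hj jj h1 => by
    have h2 : g * j * g⁻¹ * (g * j * g⁻¹) = u := by rw [conj_mul, jj, c.gz]
    have h3 := conj_mem_of_mem_normalizer c.gT hj
    refine c.uz (h2.symm.trans (n.sq_eq h c h3 ((cm_eq_one n.ee).1 ?_) (h2 ▸ c.u1) (by rw [h2, c.uu])))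
    have W3 : V3 z u e = cj g (cj g (cj g (V3 z u e))) := by
      rw [← n.WE, cj_W, cj_W, cj_W, c.cj_g_U, c.cj_g_U, c.cj_g_U, c.gz, c.gu, c.gzu]
    rw [← n.cm_of_mem c h3 (e' := g * (g * (g * e * g⁻¹) * g⁻¹) * g⁻¹), ← cm_conj, h1]
    · simp
    refine ((n.mem_E c).1 ?_).resolve_left ?_
    · rw [W3]; exact conj_mem_cj.2 (conj_mem_cj.2 (conj_mem_cj.2 (r_V3 _ _ _)))
    · rw [← c.cj_g_U, conj_mem_cj, ← c.next.V2_eq.trans c.V2_eq]; exact n2.nU
  have m1 : ∀ t ∈ S ⊓ Cx u, cm t (g * e * g⁻¹) ∈ V2 z u := fun t ht =>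
    c.V2_eq ▸ n1.nm t (c.T_eq ▸ ht).1
  have m2 : ∀ t ∈ S ⊓ Cx u, cm t (g * (g * e * g⁻¹) * g⁻¹) ∈ V2 z u := fun t ht =>
    c.next.V2_eq.trans c.V2_eq ▸ n2.nm t (c.next.T_eq.trans c.T_eq ▸ ht).1
  have aa := n1.ee
  have bb := n2.ee
  generalize g * (g * e * g⁻¹) * g⁻¹ = b at *
  generalize g * e * g⁻¹ = a at *
  have zU := l_V2 z u
  have uU := r_V2 z u
  have mv : ∀ {t y}, t ∈ S ⊓ Cx u → y ∈ V2 z u → ∀ w, t * (y * w) = y * (t * w) := fun ht hy w => by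
    rw [← mul_assoc, c.cU ht hy, mul_assoc]
  have cz := fun w => (show z * (z * w) = w by rw [← mul_assoc, c.zz, one_mul])
  have cu := fun w => (show u * (u * w) = w by rw [← mul_assoc, c.uu, one_mul])
  have uz := mv (c.U_le uU) zU
  have c1' : cm e a = z * u := by rw [← cm_inv n.ee aa, c1, inv_eq_of_mul_eq_one_right c.next.uu]
  have c2' : cm a b = z := by rw [← cm_inv aa bb, c2, inv_eq_of_mul_eq_one_right c.zz]
  have c3' : cm e b = u := by rw [← cm_inv n.ee bb, c3, inv_eq_of_mul_eq_one_right c.uu]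
  have e0 : cm e e = 1 := (cm_eq_one n.ee).2 rfl
  have np : ∀ x ∈ S ⊓ Cx u, ∀ y ∈ S ⊓ Cx u, x * x = 1 → y * y = 1 → y * x * y⁻¹ = x → cm x e = z →
      cm y e = z * u → False := fun x hx y hy xx yy xy ex ey => by
    have h0 : ∀ i ∈ V2 z u, cm i e = 1 := fun i hi => (cm_eq_one n.ee).2 (c.cU n.eT hi).symm
    rcases e16 h.rk c.zz c.uu xx yy c.zu (c.zc x hx.1) (mem_Cx.1 hx.2) (c.zc y hy.1) (mem_Cx.1 hy.2)
      (mul_inv_eq_iff_eq_mul.1 xy) c.z1 c.u1 c.uz (fun h1 => c.z1 (ex.symm.trans (h0 x h1))) with h1 | h1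
    · exact c.zu_ne_one (ey.symm.trans (h0 y h1))
    · refine c.u1 ?_
      rw [← h0 _ h1, n.cm_mul c hy hx, ex, ey, mul_assoc, ← c.zu, cz]
  have ab : a * b * (a * b) = z := by
    calc _ = a * b * a⁻¹ * (a * a) * b := by group
      _ = z := by rw [conj_of_cm bb c2', aa, mul_one, mul_assoc, bb, mul_one]
  have dT := mul_mem n.eT (mul_mem T1 T2)
  have dd : e * (a * b) * (e * (a * b)) = 1 := by
    calc _ = e * a * e⁻¹ * (e * b * e⁻¹) * (e * e) * (a * b) := by group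
      _ = z * (u * (u * (a * b * (a * b)))) := by
        rw [conj_of_cm aa c1', conj_of_cm bb c3', n.ee]
        simp only [mul_assoc, mul_one, mv T1 uU]
      _ = 1 := by rw [ab, cu, c.zz]
  have abe : cm (a * b) e = z := by rw [n.cm_mul c T1 T2, c1, c3, mul_assoc, c.uu, mul_one]
  have de : cm (e * (a * b)) e = z := by rw [n.cm_mul c n.eT (mul_mem T1 T2), e0, abe, one_mul]
  refine ⟨e, n.toNE, fun j hj je => ?_, ?_⟩
  · by_cases jj : j * j = 1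
    · exact n.mem_of_comm c h.rk jj (c.zc j hj.1) (mem_Cx.1 hj.2) je
    exfalso
    obtain ⟨m, hm⟩ := isPGroup_iff_mem.1 c.syl.pgroup j hj.1
    obtain ⟨i, hi, h1, h2⟩ := exists_four m hm jj
    have iT := zpowers_le.2 hj hi
    have ie : i * e = e * i := mem_Cx.1 (zpowers_le.2 (mem_Cx.2 je) hi)
    have ii := n.sq_eq h c iT ie h1 h2
    have adj : ∀ i ∈ S ⊓ Cx u, i * e = e * i → i * i = z → i * e * (i * e) = z := fun i _ ie ii => by
      rw [mul_assoc, ← mul_assoc e, ← ie, mul_assoc, n.ee, mul_one, ii]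
    obtain ⟨i, iT, ie, ii, ia⟩ : ∃ i ∈ S ⊓ Cx u, i * e = e * i ∧ i * i = z ∧ cm i a = z := by
      have h3 : cm (i * e) a = z * u * cm i a := by
        rw [cm_mul aa (c.cU iT (m1 e n.eT)), c1']
      rcases c.mem_U.1 (m1 i iT) with e1 | e1 | e1 | e1
      · exact absurd e1 (sq1 i iT ii)
      · exact ⟨i, iT, ie, ii, e1⟩
      · exact ⟨i * e, mul_mem iT n.eT, by rw [← mul_assoc, ← ie], adj i iT ie ii, by
          rw [h3, e1, mul_assoc, c.uu, mul_one]⟩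
      · exact absurd (by rw [h3, e1, c.next.uu]) (sq1 _ (mul_mem iT n.eT) (adj i iT ie ii))
    have ie' := (cm_eq_one n.ee).2 ie
    have ia' := conj_of_cm aa ia
    rcases c.mem_U.1 (m2 i iT) with e1 | e1 | e1 | e1
    · exact sq2 i iT ii e1
    · have ib := conj_of_cm bb e1
      refine np (i * (a * b)) (mul_mem iT (mul_mem T1 T2)) a T1 ?_ aa ?_ (by
        rw [n.cm_mul c iT (mul_mem T1 T2), ie', abe, one_mul]) c1
      · calc _ = i * a * i⁻¹ * (i * b * i⁻¹) * (i * i) * (a * b) := by group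
          _ = z * (z * (z * (a * b * (a * b)))) := by
            rw [ia', ib, ii]
            simp only [mul_assoc, mv T1 zU, mv T2 zU]
          _ = 1 := by rw [ab, cz, c.zz]
      · calc _ = i * (i⁻¹ * a * i⁻¹⁻¹) * (a * b * a⁻¹) := by group
          _ = _ := by
            rw [conj_of_cm bb c2', conj_of_cm aa (y := z)]
            · simp only [mul_assoc, mv T1 zU, cz]
            · have := cm_mul (a := i⁻¹) aa (c.cU (inv_mem iT) (m1 i iT))
              rw [inv_mul_cancel, (cm_eq_one aa).2 (by simp), ia] at this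
              rw [eq_inv_of_mul_eq_one_right this.symm, inv_eq_of_mul_eq_one_right c.zz]
    · exact sq2 _ (mul_mem iT n.eT) (adj i iT ie ii) (by
        rw [cm_mul bb (c.cU iT (m2 e n.eT)), c3', e1, c.uu])
    · have ib := conj_of_cm bb e1
      refine np _ dT (i * a) (mul_mem iT T1) dd ?_ ?_ de (by rw [n.cm_mul c iT T1, ie', c1, one_mul])
      · calc _ = i * a * i⁻¹ * (i * i) * a := by group
          _ = 1 := by rw [ia', ii]; simp only [mul_assoc, mv T1 zU, cz, aa]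
      · calc _ = i * (a * e * a⁻¹ * (a * (a * b * a⁻¹))) * i⁻¹ := by group
          _ = i * (u * (e * (a * b))) * i⁻¹ := by
            rw [conj_of_cm n.ee c1, conj_of_cm bb c2']
            simp only [mul_assoc, mv T1 zU, mv n.eT zU, uz, cz]
          _ = u * (i * e * i⁻¹ * (i * a * i⁻¹ * (i * b * i⁻¹))) := by rw [mv iT uU]; group
          _ = _ := by
            rw [conj_of_comm ie, ia', ib]
            simp only [mul_assoc, mv T1 zU, mv n.eT zU, mv T1 uU, mv n.eT uU, uz, cz, cu]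
  generalize e * (a * b) = d at *
  let X : Subgroup G :=
    { carrier := {x | x ∈ Cx z ∧ ∀ q ∈ V3 z u e, Cz z x q}
      one_mem' := ⟨one_mem _, fun q _ => Or.inl (by simp)⟩
      mul_mem' := fun ha hb => ⟨mul_mem ha.1 hb.1, fun q hq =>
        (ha.2 q hq).mul c.zz (mem_Cx.1 ha.1) (hb.2 q hq)⟩
      inv_mem' := fun ha => ⟨inv_mem ha.1, fun q hq => (ha.2 q hq).inv c.zz (mem_Cx.1 ha.1)⟩ }
  have hXn : ∀ k ∈ Cx z, ∀ x ∈ X, k * x * k⁻¹ ∈ X := fun k hk x hx =>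
    ⟨mul_mem (mul_mem hk hx.1) (inv_mem hk), fun q hq => by
      simpa [mul_assoc] using
        (hx.2 _ (conj_mem_of_mem_normalizer' (n.nH c hk) hq)).conj (mem_Cx.1 hk)⟩
  have hS : IsSylowIn 2 S (Cx z) := c.syl.of_le (fun s hs => mem_Cx.2 (c.zc s hs)) le_top
  have h1 := hS.inf_of_le_normalizer fun k hk => mem_normalizer_of_forall (hXn k hk)
  have dX : d ∈ X := ⟨mem_Cx.2 (c.zc d dT.1), fun q hq => by
    rcases (n.mem_E c).1 hq with h2 | h2
    · exact Or.inl (conj_of_comm (c.cU dT h2))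
    · exact Or.inr (conj_of_cm (n.elE c q hq) ((n.cm_of_mem c dT h2).trans de))⟩
  have h2 := hXn k n.kz d dX
  obtain ⟨q, hq, h3⟩ := h1.exists_conj_mem ⟨h2.1, h2⟩ (isPGroup_zpowers_of_pow (k := 1) (by
    rw [pow_one, sq, conj_mul, dd]; simp))
  refine ⟨_, h3.1, by rw [conj_mul, conj_mul, dd]; simp, (c.su _ h3.1).resolve_left fun h4 => ?_⟩
  have h5 : k * u * k⁻¹ ∈ V3 z u e := n.WE ▸ conj_mem_W n.kz uU
  have h6 := ((n.mem_E c).1 (conj_mem_of_mem_normalizer (n.nH c hq.1) h5)).resolve_left fun h6 => by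
    rcases hq.2.2 _ h5 with e1 | e1 <;> rw [e1] at h6
    exacts [n.ku h6, n.ku ((mul_mem_cancel_left zU).1 h6)]
  have h7 : V3 z u e ≤ Cx (q * (k * d * k⁻¹) * q⁻¹) := V3_le.2 ⟨Cx_comm.1 h3.2.1, mem_Cx.2 h4.symm,
    (mul_mem_cancel_left (conj_mem_Cx.2 (conj_mem_Cx.2 (Cx_comm.1 dT.2)))).1
      (mem_Cx.2 (c.cU ⟨h3.1, mem_Cx.2 h4⟩ h6).symm)⟩
  have h8 := h7 (conj_mem_of_mem_normalizer (n.nH c hq.1)
    (conj_mem_of_mem_normalizer (n.nH c n.kz) (r_V3 z u e)))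
  rw [conj_mem_Cx, conj_mem_Cx, mem_Cx, eq_comm, ← cm_eq_one n.ee, de] at h8
  exact c.z1 h8

end A2

theorem Cfg.fin_A2 (h : Hyp G) (c : Cfg S z u g) (h1 : ¬ W (V2 z u) z ≤ V2 z u)
    (h2 : W (V2 z u) z ≤ Cx u) : Fin' S z u :=
  let ⟨_, _, n⟩ := c.exists_A2 h h1 h2
  n.fin h c

end CfsgLib.Rk3
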