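import Cfsg.Agent.Lib.Rk3.B2

/-!
The case that the normal closure of `U` in `C(z)` is not abelian.
-/

set_option autoImplicit false

namespace CfsgLib.Rk3

open Subgroup Cfsg CfsgLib.Tech CfsgLib.W2

variable {G : Type*} [Group G] [Finite G] {S : Subgroup G} {z u g e : G}

theorem Cfg.half (h : Hyp G) (c : Cfg S z u g) {T U : Subgroup G} (hT : T = S ⊓ Cx u)
    (hU : U = V2 z u) {s v w : G} (hs : s ∈ W U z) (ss : s * s = 1) (hv : U = V2 z v) (vz : v ≠ z)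
    (sv : s * v * s⁻¹ = z * v) (hw : w = z * v) :
    Half T U (W U z ⊓ T) (W U v ⊓ T) (W U w ⊓ T) z v s := by
  subst hT hU
  obtain ⟨h1, h2⟩ := c.W_spec h
  have vU : v ∈ V2 z u := hv ▸ r_V2 z v
  have hz : ∀ t ∈ S, t ∈ Cx z := fun t ht => mem_Cx.2 (c.zc t ht)
  have sS := h1 hs
  have nU : cj s (V2 z u) = V2 z u :=
    mem_normalizer_iff_cj.1 (mem_normalizer_of_forall fun _ => c.conj_U sS)
  have nT : cj s (S ⊓ Cx u) = S ⊓ Cx u :=
    mem_normalizer_iff_cj.1 (mem_normalizer_of_forall fun _ => c.conj_T sS)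
  exact
    { zz := c.zz
      z1 := c.z1
      uz := vz
      mU := fun x => by rw [hv]; exact mem_V2 c.zz (c.elU v vU) (c.elU.comm (l_V2 _ _) vU)
      el := c.elU
      UA := le_inf (le_W _ _) c.U_le
      AT := inf_le_right
      cU := fun t ht y hy => c.cU ht hy
      An := fun t ht a ha => ⟨W_conj (hz t ht.1) ha.1, c.conj_T ht.1 ha.2⟩
      Asq := fun a ha => (h2 a ha.1).1
      Ac := fun a ha b hb => (h2 a ha.1).2 b hb.1
      ss := ss
      sT := fun t ht => c.conj_T sS ht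
      sz := conj_of_comm (c.zc s sS)
      su := sv
      sA := fun a ha => (h2 s hs).2 a ha.1
      sC := fun b => by rw [hw, ← sv, ← conj_mem_cj (g := s) (x := b), cj_inf, cj_W, nU, nT]
      sm := fun t ht => mem_inf.2 ⟨by
        simpa only [mul_assoc] using mul_mem hs (W_conj (hz t ht.1) (inv_mem hs)),
        mul_mem (c.conj_T sS ht) (inv_mem ht)⟩
      e16 := fun a ha b hb aa bb ab aU => e16 h.rk c.zz c.uu aa bb c.zu (c.zc a ha.1) (mem_Cx.1 ha.2)
        (c.zc b hb.1) (mem_Cx.1 hb.2) ab c.z1 c.u1 c.uz aU }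

omit [Finite G] in
theorem Cfg.ne_of (c : Cfg S z u g) {s : G} (hs : s ∈ S) (su : s * u * s⁻¹ = z * u)
    (n : N0 (S ⊓ Cx u) (V2 z u) e) (h : cm s e ∈ V2 z u) : NE S z u e :=
  ⟨n.eT.1, n.ee, mem_Cx.1 n.eT.2, n.nU, fun t ht => by
    rcases c.su t ht with e1 | e1
    · exact n.nm t ⟨ht, mem_Cx.2 e1⟩
    · have h1 : t * s⁻¹ ∈ S ⊓ Cx u := ⟨S.mul_mem ht (S.inv_mem hs), mem_Cx'.2 (by
        have := mem_Cx'.1 (c.mul_mem_T hs hs su su).2
        calc _ = t * (s⁻¹ * u * s) * t⁻¹ := by group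
          _ = t * (s⁻¹ * (s * s * u * (s * s)⁻¹) * s) * t⁻¹ := by rw [this]
          _ = t * (s * u * s⁻¹) * t⁻¹ := by group
          _ = u := by
            rw [su, ← conj_mul, e1, conj_of_comm (c.zc t ht), ← mul_assoc, c.zz, one_mul])⟩
      have := cm_mul n.ee (c.cU h1 h)
      rw [inv_mul_cancel_right] at this
      show cm t e ∈ _
      rw [this]
      exact mul_mem h (n.nm _ h1)⟩

theorem Cfg.fin_B (h : Hyp G) (c : Cfg S z u g) (n : NE S z u e)
    (h2 : ¬ W (V2 z u) z ≤ Cx u) : Fin' S z u := by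
  obtain ⟨s, hs, ss, su⟩ : ∃ s ∈ W (V2 z u) z, s * s = 1 ∧ s * u * s⁻¹ = z * u := by
    by_contra! h1
    refine h2 (W_le fun k hk a ha => mem_Cx.2 ((c.su _ ((c.W_spec h).1 (conj_mem_W hk ha))).resolve_right
      (h1 _ (conj_mem_W hk ha) ?_)))
    rw [conj_mul, c.elU a ha]; simp
  have sS := (c.W_spec h).1 hs
  have H1 := c.half h rfl rfl hs ss rfl c.uz su rfl
  have H2 := c.next.half h c.T_eq.symm c.V2_eq.symm (s := g * s * g⁻¹) (v := z) (w := z * u)
    (by rw [← c.cj_g_U, ← c.gz, ← cj_W, c.gz]; exact conj_mem_cj.2 hs)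
    (by rw [conj_mul, ss]; simp) (by rw [V2, Set.pair_comm]) c.uz.symm (by
      calc _ = g * s * g⁻¹ * (g * (z * u) * g⁻¹) * (g * s * g⁻¹)⁻¹ := by rw [c.gzu]
        _ = g * (s * (z * u) * s⁻¹) * g⁻¹ := by group
        _ = _ := by rw [H1.szu, c.gu, c.zu]) c.zu
  obtain ⟨e', n', h3, h4⟩ := H1.main H2 (c.syl.pgroup.to_le inf_le_left)
    (fun e n he y hy => (c.ne_of sS su n he).onto h.rk c hy)
    ⟨n.eT, n.ee, n.nU, fun t ht => n.nm t ht.1⟩ (n.nm s sS)
  have n'' := c.ne_of sS su n' h3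
  exact ⟨e', n'', fun k hk ke => (n''.mem_E c).2 (h4 k hk ke), s, sS, ss, su⟩

end CfsgLib.Rk3
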