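import Cfsg.Agent.Lib.Rk3.Basic
import Cfsg.Agent.Lib.BenderRed.Final
import Cfsg.Agent.Lib.Gold.FactB

/-!
Bender groups of 2-rank three.
-/

set_option autoImplicit false

namespace CfsgLib.Rk3

open Subgroup Cfsg CfsgLib.Tech CfsgLib.W2

namespace BendP

/-- if the involutions of a Sylow subgroup form a subgroup of order `2 ^ n` with the identity, then `n` is the rank -/
theorem key {G L P : Type*} [Group G] [Finite G] [Group L] [Group P] (h3 : PRankLE 2 3 G) (h2 : ¬ PRankLE 2 2 G)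
    (e : G ≃* L) (T : Sylow 2 L) (f : (T : Subgroup L) ≃* P) {Z : Subgroup P} (hZ : ∀ x, x ∈ Z ↔ x * x = 1) {n : ℕ}
    (hn : Nat.card Z = 2 ^ n) : n = 3 := by
  have : Finite L := Finite.of_equiv _ e.toEquiv
  have : Finite P := Finite.of_equiv _ f.toEquiv
  let ψ : P →* G := e.symm.toMonoidHom.comp ((T : Subgroup L).subtype.comp f.symm.toMonoidHom)
  have hψ : Function.Injective ψ := e.symm.injective.comp ((subtype_injective _).comp f.symm.injective)
  have h4 : Nat.card (Z.map ψ) ≤ 8 := El.card_le h3 (by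
    rintro _ ⟨x, hx, rfl⟩
    rw [← map_mul, (hZ x).1 hx, map_one])
  rw [card_map_of_injective hψ, hn] at h4
  obtain ⟨A, -, hA, h5⟩ : ∃ A : Subgroup G, IsMulCommutative A ∧ (∀ a ∈ A, a ^ 2 = 1) ∧ 2 ^ 2 < Nat.card A := by
    by_contra! h
    exact h2 h
  have hB : El (A.map e.toMonoidHom) := by
    rintro _ ⟨x, hx, rfl⟩
    rw [← map_mul, ← sq, hA x hx, map_one]
  obtain ⟨g, -, hg⟩ := (IsSylowIn.of_sylow_top T).exists_cj_le hB.pg le_top
  have h6 : Nat.card (cj g (A.map e.toMonoidHom)) ≤ Nat.card Z :=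
    Nat.card_le_card_of_injective (fun x => ⟨f ⟨x, hg x.2⟩, (hZ _).2 (by
      rw [← map_mul, ← map_one f]
      exact congrArg f (Subtype.ext (hB.cj g x x.2)))⟩) fun x y h =>
        Subtype.ext (Subtype.mk.inj (f.injective (congrArg Subtype.val h)))
  rw [card_cj, card_map_of_injective e.injective, hn] at h6
  have h7 := (Nat.pow_lt_pow_iff_right one_lt_two).1 (h5.trans_le h6)
  have h8 := (Nat.pow_le_pow_iff_right one_lt_two).1 (show 2 ^ n ≤ 2 ^ 3 from h4)
  omega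

open CfsgLib.Unitary in
theorem ut_center {F : Type*} [Field F] [Fintype F] {q : ℕ} [hF : Fact (Fintype.card F = q ^ 2)] (h2 : (2 : F) = 0) :
    ∃ Z : Subgroup (UT F q), (∀ x, x ∈ Z ↔ x * x = 1) ∧ Nat.card Z = q := by
  let Z : Subgroup (UT F q) :=
    { carrier := {u | u.X = 0}
      one_mem' := rfl
      mul_mem' := fun {a b} ha hb => by
        rw [Set.mem_setOf_eq] at ha hb ⊢
        rw [UT.mul_X, ha, hb, add_zero]
      inv_mem' := fun {a} ha => by
        rw [Set.mem_setOf_eq] at ha ⊢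
        rw [UT.inv_X, ha, neg_zero] }
  refine ⟨Z, fun x => ⟨fun hx => UT.ext ?_ ?_, fun hx => ?_⟩, (Nat.card_congr ?_).trans (card_trace_zero hF.out)⟩
  · rw [UT.mul_X, show x.X = 0 from hx, add_zero, UT.one_X]
  · rw [UT.mul_Y, show x.X = 0 from hx, zero_mul, add_zero, UT.one_Y, ← two_mul, h2, zero_mul]
  · have := congrArg UT.Y hx
    rw [UT.mul_Y, UT.one_Y, ← two_mul, h2, zero_mul, zero_add, ← pow_succ'] at this
    exact pow_eq_zero_iff (Nat.succ_ne_zero q) |>.1 this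
  · exact
      { toFun := fun u => ⟨u.1.Y, by rw [u.1.tr, show u.1.X = 0 from u.2, zero_mul]⟩
        invFun := fun y => ⟨⟨0, y.1, by rw [y.2, zero_mul]⟩, rfl⟩
        left_inv := fun u => Subtype.ext (UT.ext (show u.1.X = 0 from u.2).symm rfl)
        right_inv := fun _ => rfl }

end BendP

variable {G : Type*} [Group G] [Finite G] {S : Subgroup G} {z u g e : G}

theorem bender_eight [IsSimpleGroup G] (hG : ¬ IsMulCommutative G) (h3 : PRankLE 2 3 G)
    (h2 : ¬ PRankLE 2 2 G) {H : Subgroup G} (hH : IsStronglyEmbedded H) :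
    (∃ (F : Type) (_ : Field F) (_ : Fintype F), Fintype.card F = 8 ∧
      Nonempty (G ≃* Matrix.ProjectiveSpecialLinearGroup (Fin 2) F)) ∨
    (∃ (F : Type) (_ : Field F) (_ : Fintype F), Fintype.card F = 64 ∧
      Nonempty (G ≃* Cfsg.PSU 3 F 8)) ∨
    (∃ (F : Type) (_ : Field F) (_ : Fintype F), Fintype.card F = 8 ∧
      Nonempty (G ≃* ↥(Cfsg.Lie.Sz F 4))) := by
  have := Fact.mk Nat.prime_two
  rcases BenderRed.benderSimple G hG H hH with ⟨F, _, _, _, h4, ⟨e⟩⟩ | ⟨F, _, _, m, hm, hF, ⟨e⟩⟩ |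
    ⟨F, _, _, q, hq, h4, hF, ⟨e⟩⟩
  · obtain ⟨n, -, hn⟩ := FiniteField.card F 2
    obtain ⟨T⟩ : Nonempty (Sylow 2 (Matrix.ProjectiveSpecialLinearGroup (Fin 2) F)) := inferInstance
    have := BendP.key h3 h2 e T (MulEquiv.refl _) (Z := ⊤) (n := n)
      (fun x => iff_of_true (mem_top x) (Subtype.ext ((Abel2.good_psl_even h4).elem T x x.2)))
      (by rw [card_top, Classical.psl_card_sylow 2 2 T, hn]; simp)
    exact Or.inl ⟨F, _, _, by rw [hn, this]; rfl, ⟨e⟩⟩
  · have e' := e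
    rw [Sz.lieSz_eq hF] at e'
    have := BendP.key h3 h2 e' (Sz.tits hF).sylowU (MulEquiv.refl _) (Z := (Sz.tits hF).Z.subgroupOf _)
      (n := 2 * m + 1) (fun x => ((Sz.tits hF).mem_Z_iff'.trans (and_iff_right x.2)).trans
        (Subtype.ext_iff (a1 := x * x) (a2 := 1)).symm)
      ((Core.card_subgroupOf_of_le (Sz.tits hF).Z_le_U).trans (by rw [Sz.Tits.card_Z, Nat.card_eq_fintype_card, hF]))
    obtain rfl : m = 1 := by omega
    exact Or.inr (Or.inr ⟨F, _, _, hF, ⟨e⟩⟩)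
  · have := Fact.mk hF
    have h5 : (2 : F) = 0 := by
      obtain ⟨p, k, hp, _, -, rfl⟩ := Unitary.exists_char hF
      obtain rfl := (Nat.prime_dvd_prime_iff_eq Nat.prime_two hp).1
        (Nat.prime_two.dvd_of_dvd_pow (even_iff_two_dvd.1 hq))
      exact CharP.cast_eq_zero F 2
    obtain ⟨n, -, hn⟩ := Unitary.exists_q_eq (q := q) h5
    obtain ⟨T⟩ : Nonempty (Sylow 2 (PSU 3 F q)) := inferInstance
    obtain ⟨f⟩ := Unitary.sylow_PSU_iso h5 T
    obtain ⟨Z, h6, h7⟩ := BendP.ut_center (q := q) h5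
    obtain rfl := BendP.key h3 h2 e T f h6 (h7.trans hn)
    subst hn
    exact Or.inr (Or.inl ⟨F, _, _, hF, ⟨e⟩⟩)

end CfsgLib.Rk3
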