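import Cfsg.Agent.Lib.Rk3.Zc
import Cfsg.Agent.Lib.W2.M12f
import Cfsg.Agent.Lib.Tech.Invol

/-!
Construction of the basic configuration.
-/

set_option autoImplicit false

namespace CfsgLib.Rk3

open Subgroup Cfsg CfsgLib.Tech CfsgLib.W2

variable {G : Type*} [Group G] [Finite G] {S : Subgroup G} {z u g e : G}

/-- no group of order eight has an invariant set of five involutions -/
theorem l5 (rk : PRankLE 2 3 G) {A P : Subgroup G} {n : G} (el : El A) (zA : z ∈ A) (z1 : z ≠ 1)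
    (hP : IsPGroup 2 P) (Pz : P ≤ Cx z) (PA : P ≤ normalizer (A : Set G))
    (hm : ∀ y ∈ A, IsConj z y → y ≠ z → 4 * Nat.card (P ⊓ Cx y : Subgroup G) ≤ Nat.card P)
    (hn : n ∈ normalizer (A : Set G)) : n * z * n⁻¹ = z := by
  by_contra nz
  letI : MulAction P G := MulAction.compHom G (MulAut.conj.comp P.subtype)
  have h8 : (A : Set G).ncard ≤ 8 := (Nat.card_coe_set_eq _).symm.le.trans (el.card_le rk)
  have h6 : ((A : Set G) \ {1, z}).ncard + 2 = (A : Set G).ncard := by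
    rw [← Set.ncard_pair z1.symm, Set.ncard_diff_add_ncard_of_subset (by rintro _ (rfl | rfl); exacts [A.one_mem, zA])]
  have orb : ∀ y ∈ A, IsConj z y → y ≠ z → 4 ≤ (MulAction.orbit P y).ncard ∧
      ∀ a ∈ MulAction.orbit P y, IsConj z a ∧ a ∈ (A : Set G) \ {1, z} := fun y hy c yz => by
    refine ⟨?_, ?_⟩
    · have h1 := card_mul_relIndex' (inf_le_left : P ⊓ Cx y ≤ P)
      have h2 := hm y hy c yz
      rw [← h1, mul_comm, inf_relIndex_left] at h2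
      rw [← MulAction.index_stabilizer, show MulAction.stabilizer P y = (Cx y).subgroupOf P from
        Subgroup.ext fun x => mem_Cx'.symm]
      exact Nat.le_of_mul_le_mul_left h2 Nat.card_pos
    · rintro _ ⟨x, rfl⟩
      have c' : IsConj z (x * y * x⁻¹) := c.trans (isConj_iff.2 ⟨x, rfl⟩)
      refine ⟨c', conj_mem_of_mem_normalizer (PA x.2) hy, ?_⟩
      rintro (e | e)
      · exact z1 (isConj_one_left.1 (e ▸ c'))
      · exact yz ((MulAut.conj (x : G)).injective (e.trans (mem_Cx'.1 (Pz x.2)).symm))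
  obtain ⟨h1, h2⟩ := orb _ (conj_mem_of_mem_normalizer hn zA) (isConj_iff.2 ⟨n, rfl⟩) nz
  obtain ⟨k, hk⟩ := hP.card_orbit (n * z * n⁻¹)
  obtain ⟨j, hj⟩ := el.pg.exists_card_eq
  rw [Nat.card_coe_set_eq] at hk
  replace hj : (A : Set G).ncard = 2 ^ j := (Nat.card_coe_set_eq _).symm.trans hj
  have h3 := Set.ncard_le_ncard fun a ha => (h2 a ha).2
  have h4 : (MulAction.orbit P (n * z * n⁻¹)).ncard = 4 ∧ (A : Set G).ncard = 8 := by
    have k3 : k < 3 := (Nat.pow_lt_pow_iff_right (a := 2) (by norm_num)).1 (by omega)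
    have j3 : j ≤ 3 := (Nat.pow_le_pow_iff_right (a := 2) (by norm_num)).1 (by omega)
    interval_cases k <;> interval_cases j <;> omega
  have h5 : ∀ y ∈ (A : Set G) \ {1, z}, y ∉ MulAction.orbit P (n * z * n⁻¹) ↔ ¬ IsConj z y := fun y hy =>
    not_congr ⟨fun e => (h2 y e).1, fun c => by_contra fun e => by
      obtain ⟨h7, h9⟩ := orb y hy.1 c fun e => hy.2 (Or.inr e)
      have := Set.ncard_le_ncard (Set.union_subset (fun a ha => (h9 a ha).2) fun a ha => (h2 a ha).2)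
      rw [Set.ncard_union_eq ((MulAction.orbit.eq_or_disjoint _ _).resolve_left fun e' =>
        e (e' ▸ MulAction.mem_orbit_self y))] at this
      omega⟩
  obtain ⟨p, q, pq, e⟩ := Set.ncard_eq_two.1 (show (((A : Set G) \ {1, z}) \ MulAction.orbit P (n * z * n⁻¹)).ncard = 2 by
    have := Set.ncard_diff_add_ncard_of_subset fun a ha => (h2 a ha).2
    omega)
  have h7 : ∀ y, y = p ∨ y = q ↔ y ∈ A ∧ y ≠ 1 ∧ ¬ IsConj z y := fun y => by
    refine (Set.ext_iff.1 e y).symm.trans ⟨fun ⟨a, b⟩ => ⟨a.1, fun e => a.2 (Or.inl e), (h5 y a).1 b⟩, fun ⟨a, b, c⟩ => ?_⟩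
    have : y ∈ (A : Set G) \ {1, z} := ⟨a, fun e => e.elim b fun e => c (e ▸ IsConj.refl z)⟩
    exact ⟨this, (h5 y this).2 c⟩
  obtain ⟨pA, p1, -⟩ := (h7 p).1 (Or.inl rfl)
  obtain ⟨qA, q1, -⟩ := (h7 q).1 (Or.inr rfl)
  have fix : ∀ x ∈ normalizer (A : Set G), x * (p * q) * x⁻¹ = p * q := fun x hx => by
    have key : ∀ y, y = p ∨ y = q → x * y * x⁻¹ = p ∨ x * y * x⁻¹ = q := fun y hy => by
      obtain ⟨a, b, c⟩ := (h7 y).1 hy
      exact (h7 _).2 ⟨conj_mem_of_mem_normalizer hx a, mt conj_eq_one_iff.1 b,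
        fun e => c (e.trans (isConj_iff.2 ⟨x, rfl⟩ : IsConj y _).symm)⟩
    rw [← conj_mul]
    rcases key p (Or.inl rfl) with e | e <;> rcases key q (Or.inr rfl) with e' | e'
    · exact absurd ((MulAut.conj x).injective (e.trans e'.symm)) pq
    · rw [e, e']
    · rw [e, e', el.comm qA pA]
    · exact absurd ((MulAut.conj x).injective (e.trans e'.symm)) pq
  have c : IsConj z (p * q) := by_contra fun c => ((h7 _).2 ⟨mul_mem pA qA, fun e =>
    pq ((eq_inv_of_mul_eq_one_left e).trans (inv_eq_of_mul_eq_one_right (el q qA))), c⟩).elim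
    (fun e => q1 (mul_eq_left.1 e)) fun e => p1 (mul_eq_right.1 e)
  have e1 : p * q = z := by_contra fun e1 => by
    have := hm _ (mul_mem pA qA) c e1
    rw [inf_eq_left.2 fun x hx => mem_Cx'.2 (fix x (PA hx))] at this
    have := Nat.card_pos (α := P)
    omega
  exact nz (e1 ▸ fix n hn)

/-- a 2-subgroup of maximal order centralising two commuting conjugates of `z` -/
structure MX (R : Subgroup G) (z u : G) : Prop where
  zz : z * z = 1
  z1 : z ≠ 1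
  cj : IsConj z u
  uz : u ≠ z
  zu : z * u = u * z
  pg : IsPGroup 2 R
  Rz : R ≤ Cx z
  Ru : R ≤ Cx u
  ex : ∃ S, IsSylowIn 2 S ⊤ ∧ S ≤ Cx z
  mx : ∀ X : Subgroup G, IsPGroup 2 X → ∀ a b, IsConj z a → IsConj z b → a ≠ b → a * b = b * a → X ≤ Cx a →
    X ≤ Cx b → Nat.card X ≤ Nat.card R

namespace MX

variable {R : Subgroup G} (c : MX R z u)
include c

omit [Finite G] in
theorem uu : u * u = 1 := by
  obtain ⟨g, rfl⟩ := isConj_iff.1 c.cj
  rw [conj_mul, c.zz]; simp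

omit [Finite G] in
theorem u1 : u ≠ 1 := fun e => c.z1 (isConj_one_left.1 (e ▸ c.cj))

omit [Finite G] in
theorem symm : MX R u z where
  zz := c.uu
  z1 := c.u1
  cj := c.cj.symm
  uz := c.uz.symm
  zu := c.zu.symm
  pg := c.pg
  Rz := c.Ru
  Ru := c.Rz
  ex := by
    obtain ⟨g, rfl⟩ := isConj_iff.1 c.cj
    obtain ⟨S, h1, h2⟩ := c.ex
    exact ⟨_, h1.cj_of_mem (mem_top g), cj_Cx g z ▸ cj_mono g h2⟩
  mx := fun X hX a b ha hb => c.mx X hX a b (c.cj.trans ha) (c.cj.trans hb)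

theorem le {X : Subgroup G} (hX : IsPGroup 2 X) (h : R ≤ X) {a b : G} (ha : IsConj z a) (hb : IsConj z b)
    (ab : a ≠ b) (e : a * b = b * a) (h1 : X ≤ Cx a) (h2 : X ≤ Cx b) : X ≤ R :=
  (eq_of_le_of_card_ge h (c.mx X hX a b ha hb ab e h1 h2)).ge

theorem zY : z ∈ Zc R := ⟨c.le (c.pg.to_sup_of_normal_right' (isPGroup_two_zpowers c.zz) fun x hx =>
    mem_normalizer_of_cj_le (by rw [cj_zpowers, mem_Cx'.1 (c.Rz hx)])) le_sup_left (IsConj.refl z) c.cj c.uz.symm c.zu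
    (sup_le c.Rz (zpowers_le.2 (mem_Cx.2 rfl))) (sup_le c.Ru (zpowers_le.2 (mem_Cx.2 c.zu)))
    (mem_sup_right (mem_zpowers z)), c.zz, c.Rz⟩

theorem uY : u ∈ Zc R := c.symm.zY

theorem eq_inf (hS : IsPGroup 2 S) (h : R ≤ S) (Sz : S ≤ Cx z) : S ⊓ Cx u = R :=
  le_antisymm (c.le (hS.to_le inf_le_left) (le_inf h c.Ru) (IsConj.refl z) c.cj c.uz.symm c.zu
    (inf_le_left.trans Sz) inf_le_right) (le_inf h c.Ru)

theorem syl (hS : IsSylowIn 2 S (Cx z)) : IsSylowIn 2 S ⊤ := by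
  obtain ⟨T, h1, h2⟩ := c.ex
  exact h1.of_card_le hS.pgroup le_top (hS.card_le h1.pgroup h2)

theorem lt (hu : ∀ S : Subgroup G, IsSylowIn 2 S ⊤ → ∀ a ∈ S, ∀ b ∈ S, a * a = 1 → b * b = 1 → a ≠ 1 →
      b ≠ 1 → S ≤ Cx a → S ≤ Cx b → a = b) (hS : IsSylowIn 2 S (Cx z)) (h : R ≤ S) :
    R < S ⊓ normalizer (R : Set G) :=
  lt_inf_normalizer_of_lt hS.pgroup (h.lt_of_ne fun e => c.uz (hu S (c.syl hS) u (h c.uY.1) z (h c.zY.1) c.uu c.zz
    c.u1 c.z1 (e ▸ c.Ru) hS.le))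

theorem five (rk : PRankLE 2 3 G) {A P : Subgroup G} {n : G} (el : El A) (zA : z ∈ A) (hP : IsPGroup 2 P)
    (Pz : P ≤ Cx z) (PA : P ≤ normalizer (A : Set G)) (hm : 4 * Nat.card R ≤ Nat.card P)
    (hn : n ∈ normalizer (A : Set G)) : n * z * n⁻¹ = z :=
  l5 rk el zA c.z1 hP Pz PA (fun y hy h1 h2 => le_trans (Nat.mul_le_mul_left 4 (c.mx _ (hP.to_le inf_le_left) z y
    (IsConj.refl z) h1 h2.symm (el.comm zA hy) (inf_le_left.trans Pz) inf_le_right)) hm) hn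

theorem normal (h : Hyp G) (hS : IsSylowIn 2 S ⊤) (Sz : S ≤ Cx z) (RS : R ≤ S)
    (hP : IsSylowIn 2 (S ⊓ normalizer (R : Set G)) (normalizer (R : Set G)))
    (h2 : R.relIndex (S ⊓ normalizer (R : Set G)) = 2) {n : G} (hn : n ∈ normalizer (R : Set G))
    (nz : n * z * n⁻¹ ≠ z) {E : Subgroup G} (ES : E ≤ S) (elE : El E) (E8 : Nat.card E = 8)
    (nE : S ≤ normalizer (E : Set G)) : S ≤ normalizer (R : Set G) := by
  by_contra hlt
  have hR := c.eq_inf hS.pgroup RS Sz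
  generalize hPd : S ⊓ normalizer (R : Set G) = P at hP h2
  have PS : P ≤ S := hPd ▸ inf_le_left
  have RP : R ≤ P := hPd ▸ le_inf RS le_normalizer
  obtain ⟨s, sS, sP, sN, ss⟩ : ∃ s ∈ S, s ∉ P ∧ s ∈ normalizer (P : Set G) ∧ s * s ∈ P := by
    classical
    obtain ⟨s, sS, sP, sN⟩ := exists_mem_normalizer_of_lt hS.pgroup
      (PS.lt_of_ne fun e => hlt (e.ge.trans hP.le))
    obtain ⟨k, hk⟩ := isPGroup_iff_mem.1 hS.pgroup s sS
    have ex : ∃ k, s ^ 2 ^ k ∈ P := ⟨k, hk ▸ one_mem P⟩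
    obtain e | ⟨j, e⟩ := (Nat.find ex).eq_zero_or_eq_succ_pred.imp_right fun e => (⟨_, e⟩ : ∃ n, _ = n + 1)
    · exact absurd (by simpa [e] using Nat.find_spec ex) sP
    · exact ⟨s ^ 2 ^ j, pow_mem sS _, Nat.find_min ex (by omega), pow_mem sN _, by
        rw [← pow_two, ← pow_mul, ← pow_succ, ← e]; exact Nat.find_spec ex⟩
  have sR : s ∉ normalizer (R : Set G) := fun e => sP (hPd ▸ ⟨sS, e⟩)
  have five : ∀ {A : Subgroup G}, El A → z ∈ A → P ≤ normalizer (A : Set G) → s ∈ normalizer (A : Set G) →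
      n ∉ normalizer (A : Set G) := fun el zA h3 h4 h5 => by
    have h6 : P ⊔ zpowers s ≤ S := sup_le PS (zpowers_le.2 sS)
    refine nz (c.five h.rk el zA (hS.pgroup.to_le h6) (h6.trans Sz) (sup_le h3 (zpowers_le.2 h4)) ?_ h5)
    have h7 := card_mul_relIndex' RP
    have h8 := card_mul_relIndex' (le_sup_left : P ≤ P ⊔ zpowers s)
    have h9 : P.relIndex (P ⊔ zpowers s) ≠ 1 := fun e => sP (relIndex_eq_one.1 e (mem_sup_right (mem_zpowers s)))
    have h0 : P.relIndex (P ⊔ zpowers s) ≠ 0 := index_ne_zero_of_finite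
    rw [h2] at h7
    rw [← h8, ← h7]
    nlinarith [show 2 ≤ P.relIndex (P ⊔ zpowers s) by omega]
  have two : ∀ {a b : G}, a ∈ P → b ∈ P → a ∉ R → b ∉ R → a * b ∈ R := fun ha hb h3 h4 =>
    (idx2_mul h2 ha hb).2 (iff_of_false h3 h4)
  have cP : ∀ {x}, x ∈ P → s * x * s⁻¹ ∈ P := conj_mem_of_mem_normalizer sN
  have cP' : ∀ {x}, x ∈ P → s⁻¹ * x * s ∈ P := conj_mem_of_mem_normalizer' sN
  obtain ⟨y, hy, yY⟩ : ∃ y ∈ Zc R, s * y * s⁻¹ ∉ Zc R := by
    by_contra! e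
    exact five (el_Zc R) c.zY (hP.le.trans (norm_Zc R)) (mem_normalizer_of_forall e) (norm_Zc R hn)
  have yy : s * y * s⁻¹ * (s * y * s⁻¹) = 1 := by rw [conj_mul, hy.2.1]; simp
  by_cases yR : s * y * s⁻¹ ∈ R
  · have yc := fun a (ha : a ∈ Zc R) => Zc_comm yR ha
    have yn : ∀ a ∈ Zc R, s * y * s⁻¹ * a * (s * y * s⁻¹)⁻¹ ∈ Zc R := fun a ha => by
      rwa [yc a ha, mul_inv_cancel_right]
    have elA := (el_Zc R).sup_inv yy yc
    have h8 := elA.card_le h.rk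
    have cA := card_sup_inv yy yn yY
    have sz := mem_Cx'.1 (Sz sS)
    have y1 : y ≠ 1 := fun e => yY (by simp [e])
    have yz : y ≠ z := fun e => yY (by rw [e, sz]; exact c.zY)
    have hY := (el_Zc R).eq_V2 (by omega) c.zY hy c.z1 y1 yz
    have h3 : ∀ x ∈ P, Cz z x (s * y * s⁻¹) := fun x hx => by
      have e : x * (s * y * s⁻¹) * x⁻¹ = s * (s⁻¹ * x * s * y * (s⁻¹ * x * s)⁻¹) * s⁻¹ := by group
      rcases (el_Zc R).four (by omega) c.zY hy c.z1 y1 yz (Zc_conj (hP.le (cP' hx)) hy) with e' | e' | e' | e'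
      · exact absurd (conj_eq_one_iff.1 e') y1
      · exact absurd ((MulAut.conj _).injective (e'.trans (mem_Cx'.1 (Sz (PS (cP' hx)))).symm)) yz
      · exact Or.inl (by rw [e, e'])
      · exact Or.inr (by rw [e, e', ← conj_mul, sz])
    have AR : Zc R ⊔ zpowers (s * y * s⁻¹) ≤ R := sup_le (Zc_le R) (zpowers_le.2 yR)
    have h4 : ∀ x ∈ R, ∀ a ∈ Zc R ⊔ zpowers (s * y * s⁻¹), Cz z a x := fun x hx a ha => by
      rcases (mem_sup_inv yy yn).1 ha with e | e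
      · exact Or.inl (by rw [← Zc_comm hx e, mul_inv_cancel_right])
      · rw [← mul_one a, ← yy, ← mul_assoc]
        exact Cz.mul c.zz (mem_Cx.1 (c.Rz e.1)) (Or.inl (by rw [← Zc_comm hx e, mul_inv_cancel_right]))
          ((h3 x (RP hx)).symm c.zz (mem_Cx.1 (c.Rz yR)))
    refine five elA (mem_sup_left c.zY) (fun x hx => mem_normalizer_of_cj_le ?_) (mem_normalizer_of_cj_le ?_)
      (mem_normalizer_of_forall fun a ha => elA.mem_of_comm h.rk (by
        rw [cA, hY, card_V2 c.zz hy.2.1 (Zc_comm c.zY.1 hy) c.z1 y1 yz])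
        (by rw [conj_mul, elA a ha]; simp) fun b hb => ?_)
    · rw [cj_sup, cj_zpowers, mem_normalizer_iff_cj.1 (norm_Zc R (hP.le hx))]
      refine sup_le le_sup_left (zpowers_le.2 ?_)
      rcases h3 x hx with e | e <;> rw [e]
      exacts [mem_sup_right (mem_zpowers _), mul_mem_sup c.zY (mem_zpowers _)]
    · rw [cj_sup, cj_zpowers]
      refine sup_le ?_ (zpowers_le.2 (mem_sup_left ?_))
      · conv_lhs => rw [hY, cj_V2, sz]
        exact V2_le.2 ⟨mem_sup_left c.zY, mem_sup_right (mem_zpowers _)⟩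
      · convert Zc_conj (hP.le ss) hy using 1; group
    · have h5 := conj_mem_of_mem_normalizer hn (AR ha)
      rcases (h4 _ h5 b hb).symm c.zz (mem_Cx.1 (c.Rz h5)) with e | e
      · exact mul_inv_eq_iff_eq_mul.1 e
      · rcases h4 _ (conj_mem_of_mem_normalizer' hn (AR hb)) a ha with e' | e' <;>
          replace e' := congrArg (MulAut.conj n) e'
        · exact absurd (mul_eq_right.1 (e.symm.trans (by simpa [mul_assoc] using e'))) c.z1
        · exact absurd (mul_right_cancel (e.symm.trans (by simpa [mul_assoc] using e'))).symm nz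
  have yP := cP (RP hy.1)
  have yc : ∀ r ∈ R, s * r * s⁻¹ * (s * y * s⁻¹) = s * y * s⁻¹ * (s * r * s⁻¹) := fun r hr => by
    rw [conj_mul, conj_mul, Zc_comm hr hy]
  have elR : El R := by
    by_contra hne
    let X : Subgroup G := closure {x | ∃ r ∈ R, r * r = x}
    have XR : X ≤ R := (closure_le _).2 (by rintro _ ⟨r, hr, rfl⟩; exact mul_mem hr hr)
    have nX : ∀ x, (∀ r ∈ R, ∃ r' ∈ R, r' * r' = x * r * x⁻¹ * (x * r * x⁻¹)) → x ∈ normalizer (X : Set G) :=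
      fun x e => mem_normalizer_of_cj_le (map_le_iff_le_comap.2 ((closure_le _).2 (by
        rintro _ ⟨r, hr, rfl⟩
        obtain ⟨r', h1, h2⟩ := e r hr
        exact subset_closure ⟨r', h1, h2.trans conj_mul⟩)))
    have NX : normalizer (R : Set G) ≤ normalizer (X : Set G) := fun x hx =>
      nX x fun r hr => ⟨_, conj_mem_of_mem_normalizer hx hr, rfl⟩
    have sX := nX s fun r hr => by
      by_cases e : s * r * s⁻¹ ∈ R
      · exact ⟨_, e, rfl⟩
      · exact ⟨_, two (cP (RP hr)) yP e yR, by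
          rw [mul_assoc, ← mul_assoc (s * y * s⁻¹), ← yc r hr, mul_assoc _ _ (s * y * s⁻¹), yy, mul_one]⟩
    obtain ⟨Q, hQ⟩ := h.c2 X (c.pg.to_le XR) fun e => hne fun r hr =>
      mem_bot.1 (e ▸ (subset_closure ⟨r, hr, rfl⟩ : _ ∈ X))
    have h3 : Q ⊓ normalizer (R : Set G) ≤ P := hP.le_of_le_normalizer (hQ.pg.to_le inf_le_left) inf_le_right
      ((le_inf (NX.trans hQ.nm) le_normalizer).trans inf_normalizer_le_normalizer_inf)
    have h4 : Q ⊓ normalizer (R : Set G) ≤ R := le_sup_right.trans (c.le (hP.pgroup.to_le (sup_le RP h3)) le_sup_left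
      (IsConj.refl z) (isConj_iff.2 ⟨n, rfl⟩) nz.symm (Zc_comm c.zY.1 (Zc_conj hn c.zY))
      ((sup_le RP h3).trans (PS.trans Sz)) (sup_le (Zc_conj hn c.zY).2.2 fun x hx => by
        simpa [mul_assoc] using (conj_mem_Cx (g := n)).2 (Sz (PS (h3
          (mem_inf.2 ⟨conj_mem_of_mem_normalizer' (hQ.nm (NX hn)) hx.1, mul_mem (mul_mem (inv_mem hn) hx.2) hn⟩))))))
    have h5 : Q ≤ R := by_contra fun e => by
      have h5 : R ≤ normalizer (Q : Set G) := le_normalizer.trans (NX.trans hQ.nm)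
      obtain ⟨x, h6, h7, h8⟩ := exists_mem_normalizer_of_lt (hQ.pg.to_sup_of_normal_left' c.pg h5)
        (right_lt_sup.2 e)
      obtain ⟨q, hq, r, hr, rfl⟩ := (Coprime.mem_sup_iff_of_le_normalizer h5).1 h6
      exact h7 (mul_mem (h4 ⟨hq, (mul_mem_cancel_right (le_normalizer hr)).1 h8⟩) hr)
    exact five (el_Zc Q) ⟨hQ.cen z (NX (le_normalizer c.zY.1)) fun q hq => (mem_Cx.1 (c.Rz (h5 hq))).symm, c.zz,
      h5.trans c.Rz⟩ (hP.le.trans (NX.trans (hQ.nm.trans (norm_Zc Q)))) (norm_Zc Q (hQ.nm sX))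
      (norm_Zc Q (hQ.nm (NX hn)))
  have uS := RS c.uY.1
  have EP : E ≤ P := fun e he => hPd ▸ mem_inf.2 ⟨ES he, (inv_mem_iff (x := e)).1 (mem_normalizer_of_forall fun r hr => by
    have ui := inv_eq_of_mul_eq_one_right c.uu
    have h3 := mul_mem he (conj_mem_of_mem_normalizer (nE uS) (inv_mem he))
    have h4 : e * u * e⁻¹ ∈ R := hR.le (mem_inf.2 ⟨mul_mem (mul_mem (ES he) uS) (inv_mem (ES he)), mem_Cx.2 (by
      have := inv_eq_of_mul_eq_one_right (elE _ h3)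
      simpa [mul_assoc, ui] using this.symm)⟩)
    refine hR.le (mem_inf.2 ⟨mul_mem (mul_mem (inv_mem (ES he)) (RS hr)) (inv_mem (inv_mem (ES he))), ?_⟩)
    simpa [mul_assoc] using (conj_mem_Cx (g := e⁻¹)).2 (mem_Cx.2 (elR.comm hr h4)))⟩
  have h3 : ∀ x ∈ E, x ∈ R ∨ x ∈ Tech.cj s R := fun x hx => or_iff_not_imp_left.2 fun e => by
    have h4 := two yP (EP hx) yR e
    refine (mul_mem_cancel_left (conj_mem_cj.2 hy.1)).1 (by_contra fun e' => yR (hR.le ⟨PS yP, mem_Cx.2 ?_⟩))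
    have h5 : s * y * s⁻¹ * (s * y * s⁻¹ * x) = s * y * s⁻¹ * x * (s * y * s⁻¹) := by
      rw [← mul_assoc, yy, one_mul, eq_comm, ← mul_left_inj x, elE x hx, mul_assoc, elR _ h4]
    have h6 : ∀ a ∈ Tech.cj s R, s * y * s⁻¹ * a = a * (s * y * s⁻¹) := fun a => (elR.cj s).comm (conj_mem_cj.2 hy.1)
    by_cases h7 : u ∈ Tech.cj s R
    · exact h6 u h7
    · have := h6 (u * (s * y * s⁻¹ * x)) (mem_cj.2 (by
        convert two (cP' (RP c.uY.1)) (cP' (RP h4)) (mt mem_cj.2 h7) (mt mem_cj.2 e') using 1; group))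
      rwa [mul_assoc u, ← h5, ← mul_assoc, ← mul_assoc u, mul_left_inj] at this
  have h4 := elR.card_le h.rk
  have h5 := mem_normalizer_iff_cj.1 (nE sS)
  rcases SubgroupClass.subset_union.1 (show (E : Set G) ⊆ R ∪ Tech.cj s R from h3) with e | e
  · exact sR (eq_of_le_of_card_ge e (by omega) ▸ nE sS)
  · exact sR (cj_injective s (h5.trans (eq_of_le_of_card_ge e (by rw [card_cj]; omega))) ▸ nE sS)

end MX

theorem Hyp.exists_cfg (h : Hyp G) (ev : Even (Nat.card G))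
    (hE : ∀ S : Subgroup G, IsSylowIn 2 S ⊤ →
      ∃ E ≤ S, El E ∧ Nat.card E = 8 ∧ S ≤ normalizer (E : Set G))
    (hu : ∀ S : Subgroup G, IsSylowIn 2 S ⊤ → ∀ a ∈ S, ∀ b ∈ S, a * a = 1 → b * b = 1 → a ≠ 1 →
      b ≠ 1 → S ≤ Cx a → S ≤ Cx b → a = b) :
    ∃ (S : Subgroup G) (z u g : G), Cfg S z u g := by
  obtain ⟨R, z, u, c⟩ : ∃ (R : Subgroup G) (z u : G), MX R z u := by
    obtain ⟨S, hS⟩ := exists_isSylowIn 2 (⊤ : Subgroup G)
    obtain ⟨z, -, h1, h2⟩ := exists_mem_center_of_normalized hS.pgroup le_rfl le_normalizer fun e =>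
      hS.not_dvd (by rw [e, relIndex_bot_left, card_top]; exact ev.two_dvd)
    obtain ⟨g, h3, h4⟩ : ∃ g, Commute z (g * z * g⁻¹) ∧ g * z * g⁻¹ ≠ z := by
      by_contra! e
      exact h.zst z ⟨h1, e⟩
    obtain ⟨R, ⟨h5, a, b, ha, hb, ab, e, h6, h7⟩, mx⟩ := Set.exists_max_image {X : Subgroup G | IsPGroup 2 X ∧
      ∃ a b, IsConj z a ∧ IsConj z b ∧ a ≠ b ∧ a * b = b * a ∧ X ≤ Cx a ∧ X ≤ Cx b} (fun X => Nat.card X)
      (Set.toFinite _) ⟨⊥, IsPGroup.of_bot, z, _, IsConj.refl z, isConj_iff.2 ⟨g, rfl⟩, h4.symm, h3, bot_le, bot_le⟩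
    obtain ⟨k, rfl⟩ := isConj_iff.1 ha
    exact ⟨R, _, b, by rw [conj_mul, sq_of_ord h1]; simp, mt conj_eq_one_iff.1 (ne_one_of_ord h1), ha.symm.trans hb,
      ab.symm, e, h5, h6, h7, ⟨_, hS.cj_of_mem (mem_top k), cj_Cx k z ▸ cj_mono k fun s hs => mem_Cx.2 (h2 s hs)⟩,
      fun X hX a b h8 h9 ab e h10 h11 => mx X ⟨hX, a, b, ha.trans h8, ha.trans h9, ab, e, h10, h11⟩⟩
  obtain ⟨n, hn, nz⟩ : ∃ n ∈ normalizer (R : Set G), n * z * n⁻¹ ≠ z := by
    obtain ⟨T, hT, RT⟩ := exists_isSylowIn_ge c.pg c.Ru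
    obtain ⟨n, h1, h2⟩ := SetLike.exists_of_lt (c.symm.lt hu hT RT)
    exact ⟨n, h1.2, fun e => h2 ((c.symm.eq_inf hT.pgroup RT hT.le).le ⟨h1.1, mem_Cx'.2 e⟩)⟩
  obtain ⟨P, hP, RP⟩ := exists_isSylowIn_ge c.pg (le_inf le_normalizer c.Rz)
  obtain ⟨S, hS, PS⟩ := exists_isSylowIn_ge hP.pgroup (hP.le.trans inf_le_right)
  have RS := RP.trans PS
  obtain rfl : S ⊓ normalizer (R : Set G) = P := hP.eq_of_le (hS.pgroup.to_le inf_le_left)
    (le_inf PS (hP.le.trans inf_le_left)) (le_inf inf_le_right (inf_le_left.trans hS.le))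
  have lt := c.lt hu hS RS
  have hP' : IsSylowIn 2 (S ⊓ normalizer (R : Set G)) (normalizer (R : Set G)) :=
    isSylowIn_of_isSylowIn_normalizer inf_le_right (hP.of_le (le_inf inf_le_right le_normalizer)
      (inf_le_inf_left _ fun x hx => mem_Cx'.2 (by_contra fun e => by
        have h1 : S ⊓ normalizer (R : Set G) ≤ Cx (x * z * x⁻¹) := by
          rw [← cj_Cx, ← mem_normalizer_iff_cj.1 hx]; exact cj_mono x (PS.trans hS.le)
        exact lt.not_ge (c.le hP.pgroup RP (IsConj.refl z) (isConj_iff.2 ⟨x, rfl⟩) (Ne.symm e)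
          (mem_Cx.1 (h1 (RP c.zY.1))) (PS.trans hS.le) h1))))
  have h2 : R.relIndex (S ⊓ normalizer (R : Set G)) = 2 := by
    have h1 := card_mul_relIndex' RP
    have h3 := mt (fun e => c.five h.rk (el_Zc R) c.zY hP.pgroup (PS.trans hS.le) (hP'.le.trans (norm_Zc R)) e
      (norm_Zc R hn)) nz
    obtain ⟨k, hk⟩ := hP.pgroup.exists_card_eq
    obtain ⟨j, -, hj⟩ := (Nat.dvd_prime_pow Nat.prime_two).1 (hk ▸ Dvd.intro_left _ h1)
    have h4 : j ≠ 0 := fun e => lt.not_ge (relIndex_eq_one.1 (by rw [hj, e, pow_zero]))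
    have h5 : j < 2 := (Nat.pow_lt_pow_iff_right (a := 2) (by norm_num)).1 (hj ▸ by
      by_contra! e
      exact h3 (by rw [← h1, mul_comm]; exact Nat.mul_le_mul_left _ e))
    rw [hj, show j = 1 by omega, pow_one]
  have hS' := c.syl hS
  obtain ⟨E, ES, elE, E8, nE⟩ := hE S hS'
  have SN := c.normal h hS' hS.le RS hP' h2 hn nz ES elE E8 nE
  rw [inf_eq_left.2 SN] at h2 lt
  have hR := c.eq_inf hS.pgroup RS hS.le
  obtain ⟨s, sS, sR⟩ := SetLike.exists_of_lt lt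
  have fx : ∀ y ∈ Zc R, s * y * s⁻¹ = y → y = 1 ∨ y = z := fun y hy e => or_iff_not_imp_left.2 fun y1 =>
    hu S hS' y (RS hy.1) z (RS c.zY.1) hy.2.1 c.zz y1 c.z1 (fun x hx => by
      by_cases hx' : x ∈ R
      · exact hy.2.2 hx'
      · exact (mul_mem_cancel_right (mem_Cx'.2 e)).1 (hy.2.2 ((idx2_mul h2 hx sS).2 (iff_of_false hx' sR)))) hS.le
  have mv : ∀ y ∈ Zc R, y ≠ 1 → y ≠ z → s * y * s⁻¹ = z * y := fun y hy y1 yz => by
    have h1 := Zc_conj (SN sS) hy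
    rcases fx _ (mul_mem h1 hy) (by
      rw [← conj_mul, (el_Zc R).comm h1 hy, show s * (s * y * s⁻¹) * s⁻¹ = s * s * y * (s * s)⁻¹ by group,
        Zc_comm ((idx2_mul h2 sS sS).2 Iff.rfl) hy, mul_inv_cancel_right]) with e | e
    · exact ((fx y hy ((eq_inv_of_mul_eq_one_left e).trans (inv_eq_of_mul_eq_one_right hy.2.1))).elim y1 yz).elim
    · rw [← e, mul_assoc _ y y, hy.2.1, mul_one]
  have su := mv u c.uY c.u1 c.uz
  have sz := mem_Cx'.1 (hS.le sS)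
  have memY : ∀ y ∈ Zc R, y = 1 ∨ y = z ∨ y = u ∨ y = z * u := fun y hy =>
    or_iff_not_imp_left.2 fun y1 => or_iff_not_imp_left.2 fun yz => (fx _ (mul_mem hy c.uY) (by
      rw [← conj_mul, mv y hy y1 yz, su, mul_assoc, ← mul_assoc y, Zc_comm hy.1 c.zY, ← mul_assoc, ← mul_assoc, c.zz,
        one_mul])).imp (fun e => (eq_inv_of_mul_eq_one_left e).trans (inv_eq_of_mul_eq_one_right c.uu))
      fun e => by rw [← e, mul_assoc, c.uu, mul_one]
  obtain ⟨n, hn, nz⟩ : ∃ n ∈ normalizer (R : Set G), n * z * n⁻¹ = u := by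
    rcases memY _ (Zc_conj hn c.zY) with e | e | e | e
    · exact absurd (conj_eq_one_iff.1 e) c.z1
    · exact absurd e nz
    · exact ⟨n, hn, e⟩
    · refine ⟨s * n, mul_mem (SN sS) hn, ?_⟩
      rw [show s * n * z * (s * n)⁻¹ = s * (n * z * n⁻¹) * s⁻¹ by group, e, ← conj_mul, sz, su, ← mul_assoc, c.zz,
        one_mul]
  obtain ⟨g, hg, gz, gu⟩ : ∃ g ∈ normalizer (R : Set G), g * z * g⁻¹ = u ∧ g * u * g⁻¹ = z * u := by
    rcases memY _ (Zc_conj hn c.uY) with e | e | e | e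
    · exact absurd (conj_eq_one_iff.1 e) c.u1
    · refine ⟨n * s, mul_mem hn (SN sS), ?_, ?_⟩
      · rw [show n * s * z * (n * s)⁻¹ = n * (s * z * s⁻¹) * n⁻¹ by group, sz, nz]
      · rw [show n * s * u * (n * s)⁻¹ = n * (s * u * s⁻¹) * n⁻¹ by group, su, ← conj_mul, nz, e, c.zu]
    · exact absurd ((MulAut.conj n).injective (e.trans nz.symm)) c.uz
    · exact ⟨n, hn, nz, e⟩
  refine ⟨S, z, u, g, hS', c.zz, c.uu, c.z1, c.u1, c.uz, RS c.zY.1, RS c.uY.1, fun s hs => mem_Cx.1 (hS.le hs),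
    fun x hx => or_iff_not_imp_left.2 fun e => ?_, ⟨s, sS, su⟩, by
      rw [hR]
      exact fun y hy yy e => (mem_V2 c.zz c.uu c.zu).2 (memY y ⟨hy, yy, fun t ht => mem_Cx.2 (e t ht)⟩),
    hR ▸ hg, gz, gu⟩
  have h1 := (idx2_mul h2 hx (inv_mem sS)).2 (iff_of_false (fun e' => e (Zc_comm e' c.uY)) (mt inv_mem_iff.1 sR))
  rw [show x * u * x⁻¹ = x * s⁻¹ * (s * u * s⁻¹) * (x * s⁻¹)⁻¹ by group, su, Zc_comm h1 (mul_mem c.zY c.uY),
    mul_inv_cancel_right]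

end CfsgLib.Rk3
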