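import Cfsg.Agent.Lib.Rk3.Zc
import Cfsg.Agent.Lib.W2.M12f

/-!
The centre of a Sylow 2-subgroup is cyclic.
-/

set_option autoImplicit false

namespace CfsgLib.Rk3

open Subgroup Cfsg CfsgLib.Tech CfsgLib.W2

variable {G : Type*} [Group G] [Finite G] {S : Subgroup G} {z u g e : G}

/-- the normal closure of `Ω₁ Z(S)` in `C(z)` is `⟨Ω₁ Z(S), v⟩` -/
structure ZG (S : Subgroup G) (z v k : G) : Prop where
  four : Nat.card (Zc S) = 4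
  zZ : z ∈ Zc S
  z1 : z ≠ 1
  kz : k ∈ Cx z
  vS : v ∈ S
  vZ : v ∉ Zc S
  vk : v ∈ cj k (Zc S)
  nm : Cx z ≤ normalizer ((Zc S ⊔ zpowers v : Subgroup G) : Set G)

theorem Hyp.exists_zg (h : Hyp G) (hS : IsSylowIn 2 S ⊤) (h4 : Nat.card (Zc S) = 4) {x k : G} (hx : x ∈ Zc S)
    (tS : k * x * k⁻¹ ∈ S) (tZ : k * x * k⁻¹ ∉ Zc S) : ∃ z c, ZG S z (k * x * k⁻¹) c := by
  have tt : k * x * k⁻¹ * (k * x * k⁻¹) = 1 := by rw [conj_mul, hx.2.1]; simp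
  have tc := fun a (ha : a ∈ Zc S) => Zc_comm tS ha
  have tn : ∀ a ∈ Zc S, k * x * k⁻¹ * a * (k * x * k⁻¹)⁻¹ ∈ Zc S := fun a ha => by
    rwa [tc a ha, mul_inv_cancel_right]
  have elA := (el_Zc S).sup_inv tt tc
  have cA := card_sup_inv tt tn tZ
  obtain ⟨c, hc, e1⟩ := ((hS.cj_of_mem (mem_top k)).of_le (cj_Cx k x ▸ cj_mono k hx.2.2) le_top).exists_cj_le elA.pg
    fun a ha => mem_Cx.2 (elA.comm ha (mem_sup_right (mem_zpowers _)))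
  have e2 : c⁻¹ * k * x * (c⁻¹ * k)⁻¹ = k * x * k⁻¹ := by
    rw [← mem_Cx'.1 (inv_mem hc)]; group
  have e3 : Zc S ⊔ zpowers (k * x * k⁻¹) ≤ cj (c⁻¹ * k) S := by
    rw [cj_mul, ← cj_le_cj_iff c, cj_cj_inv]; exact e1
  clear e1 hc
  generalize k * x * k⁻¹ = t at *
  generalize c⁻¹ * k = k at *
  subst e2
  have e4 : ∀ y ∈ Zc S, cj k S ≤ Cx (k * y * k⁻¹) := fun y hy => cj_Cx k y ▸ cj_mono k hy.2.2
  obtain ⟨y, hy, y1, yx⟩ : ∃ y ∈ Zc S, y ≠ 1 ∧ y ≠ x := by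
    by_contra! e
    have := card_le_of_le (show Zc S ≤ ⊥ ⊔ zpowers x from fun y hy => (mem_sup_inv hx.2.1 (by simp)).2
      (or_iff_not_imp_left.2 fun e' => by rw [e y hy e']; exact hx.2.1))
    rw [card_sup_inv hx.2.1 (by simp) fun e => tZ (by rw [mem_bot.1 e]; simp), card_bot] at this
    omega
  obtain ⟨y, hy, y1, yZ⟩ : ∃ y ∈ Zc S, y ≠ 1 ∧ k * y * k⁻¹ ∈ Zc S := by
    rcases (mem_sup_inv tt tn).1 (elA.mem_of_comm h.rk (t := k * y * k⁻¹) (by omega)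
      (by rw [conj_mul, hy.2.1]; simp) fun a ha => (mem_Cx.1 (e4 y hy (e3 ha))).symm) with e | e
    · exact ⟨y, hy, y1, e⟩
    · exact ⟨y * x, mul_mem hy hx, fun e => yx ((eq_inv_of_mul_eq_one_left e).trans
        (inv_eq_of_mul_eq_one_right hx.2.1)), by rwa [conj_mul] at e⟩
  have z1 : k * y * k⁻¹ ≠ 1 := mt conj_eq_one_iff.1 y1
  have hS' := hS.of_le yZ.2.2 le_top
  obtain ⟨m, hm, e5⟩ := hS'.exists_cj_eq ((hS.cj_of_mem (mem_top k)).of_le (e4 y hy) le_top)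
  have e6 : k * x * k⁻¹ ∈ cj m (Zc S) := mem_cj.2 (by
    convert Zc_conj (n := m⁻¹ * k) (mem_normalizer_iff_cj.2 (by rw [cj_mul, ← e5, cj_inv_cj])) hx using 1; group)
  obtain ⟨Q, hQ⟩ := h.c2x yZ.2.1 z1
  have h1 : ∀ c ∈ Cx (k * y * k⁻¹), ∀ a ∈ Zc S, ∀ q ∈ Q, c * a * c⁻¹ * q = q * (c * a * c⁻¹) := fun c hc a ha q hq => by
    have := Zc_comm (hQ.le_syl hS' (conj_mem_of_mem_normalizer' (hQ.nm hc) hq)) ha
    simpa [mul_assoc] using congrArg (MulAut.conj c) this.symm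
  have elW : El (W (Zc S) (k * y * k⁻¹)) := el_closure
    (by rintro _ ⟨c, -, a, ha, rfl⟩; rw [conj_mul, ha.2.1]; simp) (by
      rintro _ ⟨c, hc, a, ha, rfl⟩ _ ⟨c', hc', a', ha', rfl⟩
      exact h1 c hc a ha _ (hQ.cen _ (mul_mem (mul_mem hc' (hS'.le ha'.1)) (inv_mem hc')) (h1 c' hc' a' ha')))
  have e7 : Zc S ⊔ zpowers (k * x * k⁻¹) = W (Zc S) (k * y * k⁻¹) :=
    eq_of_le_of_card_ge (sup_le (le_W _ _) (zpowers_le.2 (by
      obtain ⟨a, ha, e⟩ := e6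
      exact e ▸ conj_mem_W hm ha))) (by have := elW.card_le h.rk; omega)
  exact ⟨_, m, h4, yZ, z1, hm, tS, tZ, e6, e7 ▸ fun c hc => mem_normalizer_of_forall fun _ => W_conj hc⟩

namespace ZG

variable {v k : G} (c : ZG S z v k)
include c

omit [Finite G] in
theorem vv : v * v = 1 := (el_Zc S).cj k v c.vk

omit [Finite G] in
theorem mem {x : G} : x ∈ Zc S ⊔ zpowers v ↔ x ∈ Zc S ∨ x * v ∈ Zc S :=
  mem_sup_inv c.vv fun a ha => by rwa [Zc_comm c.vS ha, mul_inv_cancel_right]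

theorem el : El (Zc S ⊔ zpowers v) := (el_Zc S).sup_inv c.vv fun _ => Zc_comm c.vS

theorem mem_of_comm (h : Hyp G) {t : G} (tt : t * t = 1) (hS : t ∈ S) (e : t * v = v * t) :
    t ∈ Zc S ⊔ zpowers v :=
  c.el.mem_of_comm h.rk (by
    rw [card_sup_inv c.vv (fun a ha => by rwa [Zc_comm c.vS ha, mul_inv_cancel_right]) c.vZ, c.four]) tt
    fun _ ha => (mem_Cx.1 ((sup_le (fun _ hy => mem_Cx.2 (Zc_comm hS hy).symm)
      (zpowers_le.2 (mem_Cx.2 e.symm)) : _ ≤ Cx t) ha)).symm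

omit [Finite G] in
theorem conj_mem {y : G} (hy : y ∈ Zc S) : k * y * k⁻¹ ∈ Zc S ⊔ zpowers v :=
  conj_mem_of_mem_normalizer (c.nm c.kz) (mem_sup_left hy)

theorem inter {y : G} (hy : y ∈ Zc S) (e : k * y * k⁻¹ ∈ Zc S) : y = 1 ∨ y = z := by
  by_contra! hn
  obtain ⟨a, ha, e1⟩ := c.vk
  have : Zc S ≤ (Zc S).comap (MulAut.conj k).toMonoidHom :=
    ((el_Zc S).eq_V2 c.four.le c.zZ hy c.z1 hn.1 hn.2).le.trans
      (V2_le.2 ⟨show k * z * k⁻¹ ∈ Zc S by rw [mem_Cx'.1 c.kz]; exact c.zZ, e⟩)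
  exact c.vZ (e1 ▸ this ha)

omit [Finite G] in
theorem cm_mem {s : G} (hs : s ∈ S) : cm s v ∈ Zc S :=
  (c.mem.1 (conj_mem_of_mem_normalizer (c.nm (c.zZ.2.2 hs)) (mem_sup_right (mem_zpowers v)))).resolve_left
    fun e => c.vZ (by simpa [mul_assoc] using Zc_conj (le_normalizer (inv_mem hs)) e)

omit [Finite G] in
theorem cm_mul {a b : G} (ha : a ∈ S) (hb : b ∈ S) : cm (a * b) v = cm b v * cm a v :=
  Rk3.cm_mul c.vv (Zc_comm ha (c.cm_mem hb))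

theorem cm_ne (hS : IsSylowIn 2 S ⊤) {s : G} (hs : s ∈ S) : cm s v ≠ z := fun e => by
  have e1 : s * v * s⁻¹ = z * v := by rw [← e, cm, mul_assoc _ v v, c.vv, mul_one]
  have h1 : ∀ y ∈ Zc S ⊔ zpowers v, Cz z s y := fun y hy => by
    rcases c.mem.1 hy with e | e
    · exact Or.inl (by rw [Zc_comm hs e, mul_inv_cancel_right])
    · obtain ⟨a, rfl⟩ : ∃ a, y = a * v := ⟨y * v, by rw [mul_assoc, c.vv, mul_one]⟩
      rw [mul_assoc, c.vv, mul_one] at e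
      exact Or.inr (by rw [← conj_mul, e1, Zc_comm hs e, mul_inv_cancel_right, ← mul_assoc, ← mul_assoc,
        (el_Zc S).comm e c.zZ])
  obtain ⟨n, hn, e2⟩ := (hS.of_le (le_normalizer.trans (norm_Zc S)) le_top).exists_conj_mem (x := k⁻¹ * s * k⁻¹⁻¹)
    (mem_normalizer_of_forall fun y hy => by
      have := (h1 _ (c.conj_mem hy)).conj (mem_Cx.1 (inv_mem c.kz))
      rw [show k⁻¹ * (k * y * k⁻¹) * k⁻¹⁻¹ = y by group] at this
      rcases this with e | e <;> rw [e]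
      exacts [hy, mul_mem c.zZ hy])
    (cj_zpowers k⁻¹ s ▸ isPGroup_cj _ (isPGroup_zpowers_of_mem hS.pgroup hs))
  obtain ⟨a, ha, rfl⟩ := c.vk
  have e3 := congrArg (MulAut.conj (k * n⁻¹)) (Zc_comm e2 (conj_mem_of_mem_normalizer hn ha))
  exact c.z1 (e.symm.trans ((cm_eq_one c.vv).2 (by simpa [mul_assoc] using e3)))

theorem cm_two (hS : IsSylowIn 2 S ⊤) {s t : G} (hs : s ∈ S) (ht : t ∈ S) (h1 : cm s v ≠ 1) :
    cm t v = 1 ∨ cm t v = cm s v := by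
  rcases (el_Zc S).four c.four.le c.zZ (c.cm_mem hs) c.z1 h1 (c.cm_ne hS hs) (c.cm_mem ht) with e | e | e | e
  · exact Or.inl e
  · exact absurd e (c.cm_ne hS ht)
  · exact Or.inr e
  · exact absurd (by rw [c.cm_mul hs ht, e, mul_assoc, (c.cm_mem hs).2.1, mul_one]) (c.cm_ne hS (mul_mem hs ht))

theorem conj_Z (hS : IsSylowIn 2 S ⊤) {x : G} (hx : x ∈ Zc S ⊔ zpowers v) : ∃ g, ∃ y ∈ Zc S, x = g * y * g⁻¹ := by
  obtain ⟨s, hs, e⟩ : ∃ s ∈ S, cm s v ≠ 1 := by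
    by_contra! e
    exact c.vZ ⟨c.vS, c.vv, fun s hs => mem_Cx.2 ((cm_eq_one c.vv).1 (e s hs))⟩
  obtain ⟨a, ha, e1⟩ := c.vk
  change k * a * k⁻¹ = v at e1
  have e2 : k * (z * a) * k⁻¹ = z * v := by rw [← conj_mul, e1, mem_Cx'.1 c.kz]
  have e3 : ∀ {y}, x * v = y → x = y * v := fun e => by rw [← e, mul_assoc, c.vv, mul_one]
  have e4 : cm s v * v = s * v * s⁻¹ := by rw [cm, mul_assoc _ v v, c.vv, mul_one]
  rcases c.mem.1 hx with hx | hx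
  · exact ⟨1, x, hx, by simp⟩
  rcases (el_Zc S).four c.four.le c.zZ (c.cm_mem hs) c.z1 e (c.cm_ne hS hs) hx with e' | e' | e' | e'
  · exact ⟨k, a, ha, by rw [e3 e', one_mul, e1]⟩
  · exact ⟨k, _, mul_mem c.zZ ha, by rw [e3 e', e2]⟩
  · exact ⟨s * k, a, ha, by rw [e3 e', e4, ← e1]; group⟩
  · refine ⟨s * k, _, mul_mem c.zZ ha, ?_⟩
    rw [show s * k * (z * a) * (s * k)⁻¹ = s * (k * (z * a) * k⁻¹) * s⁻¹ by group, e2, e3 e', mul_assoc, e4,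
      ← mul_assoc s, Zc_comm hs c.zZ]
    group

theorem mem_Z (h : Hyp G) {t y : G} (ht : t ∈ S) (e : t * v ≠ v * t) (hy : y ∈ S) (yy : y * y = 1)
    (h1 : y * v = v * y) (h2 : y * t = t * y) : y ∈ Zc S :=
  (c.mem.1 (c.mem_of_comm h yy hy h1)).resolve_right fun e' => e (mul_left_cancel (a := y) (by
    rw [← mul_assoc, h2, mul_assoc, Zc_comm ht e', mul_assoc]))

theorem sq_eq (h : Hyp G) (hS : IsSylowIn 2 S ⊤) {z' v' k' : G} (c' : ZG S z' v' k') (e : v' * v ≠ v * v') {d : G}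
    (hd : d ∈ S) (h1 : d * v = v * d) (h2 : d * d ∈ Zc S) : d * d = 1 ∨ d * d = z := by
  have hn : Cx z ≤ normalizer (centralizer ((Zc S ⊔ zpowers v : Subgroup G) : Set G) : Set G) := fun x hx =>
    mem_normalizer_iff_cj.2 (by rw [cj_centralizer, mem_normalizer_iff_cj.1 (c.nm hx)])
  obtain ⟨n, hn', e1⟩ := ((hS.of_le c.zZ.2.2 le_top).inf_of_le_normalizer hn).frattini (g := k)
    (inf_normalizer_le_normalizer_inf (mem_inf.2 ⟨le_normalizer c.kz, hn c.kz⟩))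
  obtain ⟨h3, h4⟩ := conj_mem_of_mem_normalizer e1 (x := d) ⟨hd, le_centralizer_iff.1
    (sup_le (fun y hy => mem_centralizer_iff.2 (by rintro _ ⟨j, rfl⟩; exact (Commute.zpow_left (Zc_comm hd hy) j).eq))
      (zpowers_le.2 (mem_centralizer_iff.2 (by rintro _ ⟨j, rfl⟩; exact (Commute.zpow_left h1 j).eq))))
    (mem_zpowers d)⟩
  have e2 : n * k * d * (n * k)⁻¹ * (n * k * d * (n * k)⁻¹) = k * (d * d) * k⁻¹ := by
    rw [conj_mul, ← mul_inv_cancel_right (k * (d * d) * k⁻¹) n, mem_centralizer_iff.1 hn'.2 _ (c.conj_mem h2)]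
    group
  refine c.inter h2 (e2 ▸ c.mem_Z h c'.vS e (mul_mem h3 h3) (by rw [e2, conj_mul, h2.2.1]; simp)
    (mem_centralizer_iff.1 (mul_mem h4 h4) _ (mem_sup_right (mem_zpowers v))).symm
    ((cm_eq_one c'.vv).1 (by rw [c'.cm_mul h3 h3, (c'.cm_mem h3).2.1])))

end ZG

theorem Hyp.uniq (h : Hyp G) (hS : IsSylowIn 2 S ⊤) {a b : G} (ha : a ∈ S) (hb : b ∈ S)
    (aa : a * a = 1) (bb : b * b = 1) (a1 : a ≠ 1) (b1 : b ≠ 1) (ac : S ≤ Cx a) (bc : S ≤ Cx b) :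
    a = b := by
  by_contra ab
  have aZ : a ∈ Zc S := ⟨ha, aa, ac⟩
  have bZ : b ∈ Zc S := ⟨hb, bb, bc⟩
  have gold : ∀ A : Subgroup G, Zc S ≤ A → A ≤ S → El A → ∃ x ∈ A, ∃ k, k * x * k⁻¹ ∈ S ∧ k * x * k⁻¹ ∉ A :=
    fun A h1 h2 h3 => by
      by_contra! e
      exact h.gold S A hS (fun e => a1 (mem_bot.1 (e ▸ h1 aZ))) h3 ⟨h2, e⟩
  obtain ⟨x, hx, k, tS, tZ⟩ := gold _ le_rfl (Zc_le S) (el_Zc S)
  have h4 : Nat.card (Zc S) = 4 := by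
    have e := mem_Cx.1 (bc ha)
    rw [← card_V2 aa bb e a1 b1 (Ne.symm ab), le_antisymm (V2_le.2 ⟨aZ, bZ⟩) fun y hy => by_contra fun hn => tZ
      ((el_Zc S).mem_of_comm h.rk (by
        rw [← card_V3 (card_V2 aa bb e a1 b1 (Ne.symm ab)) hy.2.1 (Zc_comm hy.1 aZ) (Zc_comm hy.1 bZ) hn]
        exact card_le_of_le (V3_le.2 ⟨aZ, bZ, hy⟩)) (by rw [conj_mul, hx.2.1]; simp) fun _ => Zc_comm tS)]
  obtain ⟨z₁, k₁, c₁⟩ := h.exists_zg hS h4 hx tS tZ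
  generalize k * x * k⁻¹ = v₁ at c₁
  obtain ⟨x, hx, k, tS, tV⟩ := gold _ le_sup_left (sup_le (Zc_le S) (zpowers_le.2 c₁.vS)) c₁.el
  obtain ⟨g, y, hy, rfl⟩ := c₁.conj_Z hS hx
  rw [show k * (g * y * g⁻¹) * k⁻¹ = k * g * y * (k * g)⁻¹ by group] at tS tV
  obtain ⟨z₂, k₂, c₂⟩ := h.exists_zg hS h4 hy tS fun e => tV (mem_sup_left e)
  generalize k * g * y * (k * g)⁻¹ = v₂ at c₂ tV
  have z12 : z₂ ≠ z₁ := fun e => by
    obtain ⟨a, ha, rfl⟩ := c₂.vk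
    exact tV (conj_mem_of_mem_normalizer (c₁.nm (e ▸ c₂.kz)) (mem_sup_left ha))
  have nc : v₂ * v₁ ≠ v₁ * v₂ := fun e => tV (c₁.mem_of_comm h c₂.vv c₂.vS e)
  obtain ⟨w, hw⟩ : ∃ w, cm v₂ v₁ = w := ⟨_, rfl⟩
  have wZ : w ∈ Zc S := hw ▸ c₁.cm_mem c₂.vS
  have hw' : cm v₁ v₂ = w := by rw [← cm_inv c₁.vv c₂.vv, hw, inv_eq_of_mul_eq_one_right wZ.2.1]
  have w1 : w ≠ 1 := fun e => nc ((cm_eq_one c₁.vv).1 (hw.trans e))
  have wz₁ : w ≠ z₁ := hw ▸ c₁.cm_ne hS c₂.vS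
  have wz₂ : w ≠ z₂ := hw' ▸ c₂.cm_ne hS c₁.vS
  have hD : ∀ d ∈ S, cm d v₁ = 1 → cm d v₂ = 1 → d ∈ Zc S := fun d hd e₁ e₂ => by
    obtain ⟨j, hj⟩ := isPGroup_iff_mem.1 hS.pgroup d hd
    rw [cm_eq_one c₁.vv] at e₁
    rw [cm_eq_one c₂.vv] at e₂
    induction j generalizing d with
    | zero => exact (pow_one d).symm.trans hj ▸ one_mem _
    | succ j ih =>
      have h2 := ih _ (mul_mem hd hd) (Commute.mul_left e₁ e₁) (Commute.mul_left e₂ e₂)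
        (by rwa [← pow_two, ← pow_mul, ← pow_succ'])
      refine c₁.mem_Z h c₂.vS nc hd (by_contra fun e => z12 ?_) e₁ e₂
      rw [← (c₁.sq_eq h hS c₂ nc hd e₁ h2).resolve_left e, (c₂.sq_eq h hS c₁ (Ne.symm nc) hd e₂ h2).resolve_left e]
  have gen : ∀ M : Subgroup G, Zc S ≤ M → v₁ ∈ M → v₂ ∈ M → S ≤ M := fun M h0 h1 h2 => by
    have key : ∀ s ∈ S, cm s v₁ = 1 → s ∈ M := fun s hs e => by
      rcases c₂.cm_two hS c₁.vS hs (hw' ▸ w1) with e' | e'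
      · exact h0 (hD s hs e e')
      · exact (mul_mem_cancel_right h1).1 (h0 (hD _ (mul_mem hs c₁.vS)
          (by rw [c₁.cm_mul hs c₁.vS, e, (cm_eq_one c₁.vv).2 rfl, mul_one])
          (by rw [c₂.cm_mul hs c₁.vS, e', hw', wZ.2.1])))
    intro s hs
    rcases c₁.cm_two hS c₂.vS hs (hw ▸ w1) with e | e
    · exact key s hs e
    · exact (mul_mem_cancel_right h2).1 (key _ (mul_mem hs c₂.vS) (by rw [c₁.cm_mul hs c₂.vS, e, hw, wZ.2.1]))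
  have hp := (c₁.mem.1 (c₁.conj_mem wZ)).resolve_left fun e => (c₁.inter wZ e).elim w1 wz₁
  have hq := (c₂.mem.1 (c₂.conj_mem wZ)).resolve_left fun e => (c₂.inter wZ e).elim w1 wz₂
  have pw : IsConj w (k₁ * w * k₁⁻¹) := isConj_iff.2 ⟨_, rfl⟩
  have qw : IsConj w (k₂ * w * k₂⁻¹) := isConj_iff.2 ⟨_, rfl⟩
  have pp := c₁.el _ (c₁.conj_mem wZ)
  have qq := c₂.el _ (c₂.conj_mem wZ)
  generalize k₁ * w * k₁⁻¹ = p at hp pw pp
  generalize k₂ * w * k₂⁻¹ = q at hq qw qq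
  have pS : p ∈ S := (mul_mem_cancel_right c₁.vS).1 hp.1
  have qS : q ∈ S := (mul_mem_cancel_right c₂.vS).1 hq.1
  have pq : q * p * q⁻¹ = w * p := by
    have e1 : cm q p = cm q v₁ := by
      rw [← cm_adj hp.2.1 (Zc_comm qS hp) (Zc_comm c₁.vS hp), mul_assoc, c₁.vv, mul_one]
    have e2 : cm q v₁ = w := by
      rw [← hw, ← mul_one (cm v₂ v₁), ← (cm_eq_one c₁.vv).2 (Zc_comm c₁.vS hq).symm, ← c₁.cm_mul hq.1 c₂.vS,
        mul_assoc q, c₂.vv, mul_one]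
    rw [← e2, ← e1, cm, mul_assoc _ p p, pp, mul_one]
  have wp := (Zc_comm pS wZ).symm
  have nq : ∀ y ∈ V2 w p, q * y * q⁻¹ ∈ V2 w p := cj_le_iff.1 (by
    rw [cj_V2, Zc_comm qS wZ, mul_inv_cancel_right, pq]
    exact V2_le.2 ⟨l_V2 _ _, mul_mem (l_V2 _ _) (r_V2 _ _)⟩)
  have sq : p * q * (p * q) = w := by
    rw [mul_assoc, ← mul_assoc q, mul_inv_eq_iff_eq_mul.1 pq, mul_assoc _ q, qq, mul_one, wp, ← mul_assoc, pp,
      one_mul]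
  have elt : ∀ x ∈ V2 w p ⊔ zpowers q, (x * x = 1 ∧ (x = 1 ∨ IsConj w x)) ∨ x * x = w := fun x hx => by
    have e3 : ∀ {y}, x * q = y → x = y * q := fun e => by rw [← e, mul_assoc, qq, mul_one]
    have e4 : ∀ y ∈ S, w * y * (w * y) = y * y := fun y hy => by
      rw [mul_assoc, ← mul_assoc y, Zc_comm hy wZ, ← mul_assoc, ← mul_assoc, wZ.2.1, one_mul]
    rcases (mem_sup_inv qq nq).1 hx with e | e <;> rcases (mem_V2 wZ.2.1 pp wp).1 e with e | e | e | e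
    · exact Or.inl ⟨by rw [e, mul_one], Or.inl e⟩
    · exact Or.inl ⟨e ▸ wZ.2.1, Or.inr (e ▸ IsConj.refl _)⟩
    · exact Or.inl ⟨e ▸ pp, Or.inr (e ▸ pw)⟩
    · exact Or.inl ⟨by rw [e, e4 p pS, pp], Or.inr (pw.trans (isConj_iff.2 ⟨q, pq.trans e.symm⟩))⟩
    · exact Or.inl ⟨by rw [e3 e, one_mul, qq], Or.inr (by rwa [e3 e, one_mul])⟩
    · refine Or.inl ⟨by rw [e3 e, e4 q qS, qq], Or.inr (qw.trans (isConj_iff.2 ⟨p, ?_⟩))⟩
      rw [e3 e, inv_eq_of_mul_eq_one_right pp, ← sq, mul_assoc _ _ q, mul_assoc p q q, qq, mul_one]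
    · exact Or.inr (by rw [e3 e, sq])
    · exact Or.inr (by rw [e3 e, mul_assoc w p, e4 _ (mul_mem pS qS), sq])
  have MS : V2 w p ⊔ zpowers q ≤ S := sup_le (V2_le.2 ⟨wZ.1, pS⟩) (zpowers_le.2 qS)
  have nz : ∀ y ∈ V2 w p ⊔ zpowers q, z₁ * y * z₁⁻¹ ∈ V2 w p ⊔ zpowers q := fun y hy => by
    rwa [← Zc_comm (MS hy) c₁.zZ, mul_inv_cancel_right]
  have hM : V2 w p ⊔ zpowers q ⊔ zpowers z₁ = S := by
    have h0 : Zc S ≤ V2 w p ⊔ zpowers q ⊔ zpowers z₁ :=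
      ((el_Zc S).eq_V2 h4.le c₁.zZ wZ c₁.z1 w1 wz₁).le.trans
        (V2_le.2 ⟨mem_sup_right (mem_zpowers _), mem_sup_left (mem_sup_left (l_V2 _ _))⟩)
    exact le_antisymm (sup_le MS (zpowers_le.2 c₁.zZ.1)) (gen _ h0
      ((mul_mem_cancel_left (mem_sup_left (mem_sup_left (r_V2 w p)))).1 (h0 hp))
      ((mul_mem_cancel_left (mem_sup_left (mem_sup_right (mem_zpowers q)))).1 (h0 hq)))
  obtain ⟨k, hk⟩ : ∃ k, k * z₁ * k⁻¹ ∈ V2 w p ⊔ zpowers q := by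
    by_contra! e
    obtain ⟨K, -, h1, -⟩ := thompson_in hS (A := V2 w p ⊔ zpowers q) (by
      have h1 := card_mul_relIndex' MS
      rw [← hM, card_sup_inv c₁.zZ.2.1 nz (by simpa using e 1), hM, mul_comm 2] at h1
      exact Nat.eq_of_mul_eq_mul_left Nat.card_pos h1) (ord_two c₁.zZ.2.1 c₁.z1) (mem_top _) fun k _ => e k
    exact h.idx K (by rwa [relIndex_top_right] at h1)
  have e1 : k * z₁ * k⁻¹ * (k * z₁ * k⁻¹) = 1 := by rw [conj_mul, c₁.zZ.2.1]; simp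
  obtain ⟨m, hm⟩ := isConj_iff.1 ((((elt _ hk).resolve_right fun e => w1 (e.symm.trans e1)).2.resolve_left
    (mt conj_eq_one_iff.1 c₁.z1)).trans (isConj_iff.2 ⟨k, rfl⟩ : IsConj z₁ _).symm)
  obtain ⟨n, -, hn, e2⟩ := exists_normalizer_conj hS (mem_top m) wZ.2.2 (hm ▸ c₁.zZ.2.2)
  have h5 := conj_mem_of_mem_normalizer hn (mul_mem pS qS)
  have e3 : n * (p * q) * n⁻¹ * (n * (p * q) * n⁻¹) = z₁ := by rw [conj_mul, sq, e2, hm]
  generalize n * (p * q) * n⁻¹ = x at h5 e3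
  rcases (mem_sup_inv c₁.zZ.2.1 nz).1 (hM.ge h5) with e | e <;> have := elt _ e
  · rw [e3] at this
    exact this.elim (fun e => c₁.z1 e.1) wz₁.symm
  · rw [mul_assoc, ← mul_assoc z₁, ← Zc_comm h5 c₁.zZ, mul_assoc, c₁.zZ.2.1, mul_one, e3] at this
    exact this.elim (fun e => c₁.z1 e.1) wz₁.symm

end CfsgLib.Rk3
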