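import Cfsg.Agent.Lib.Rk3.B0

/-!
The triangle of normal subgroups of `T`: the case `A ∩ B ≠ U`.
-/

set_option autoImplicit false

namespace CfsgLib.Rk3.Half

open Subgroup Cfsg CfsgLib.Tech CfsgLib.W2

variable {G : Type*} [Group G] {T U A B C : Subgroup G} {z u s r e : G}
  (h : Half T U A B C z u s)
include h

theorem swapc {a b y : G} (hb : b ∈ T) (hy : y ∈ U) (e : a * b * a⁻¹ = y * b) :
    b * a * b⁻¹ = y * a := by
  rw [mul_inv_eq_iff_eq_mul] at e ⊢
  rw [mul_assoc, e, ← mul_assoc, ← mul_assoc, h.el y hy, one_mul]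

theorem cjm {t y : G} (ht : t ∈ T) (hy : y ∈ U) (w : G) :
    t * (y * w) * t⁻¹ = y * (t * w * t⁻¹) := by rw [h.mv ht hy, mul_assoc]

theorem comm_E (n : N0 T U e) {k m : G} (hk : k ∈ T) (ke : k * e = e * k) (hm : m ∈ U ∨ m * e ∈ U) :
    k * m = m * k := by
  rcases hm with hm | hm
  · exact h.cU k hk m hm
  · have := h.cU k hk _ hm
    rw [mul_assoc, ← ke, ← mul_assoc, ← mul_assoc] at this
    exact mul_right_cancel this

theorem sq_E (n : N0 T U e) {k m : G} (hk : k ∈ T) (ke : k * e = e * k) (hm : m ∈ U ∨ m * e ∈ U) :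
    m * k * (m * k) = k * k := by
  have mm : m * m = 1 := by
    rcases hm with hm | hm
    · exact h.el m hm
    · rw [show m = m * e * e by rw [mul_assoc, n.ee, mul_one], h.sq_mul n.eT hm, n.ee]
  rw [mul_assoc, ← mul_assoc k, h.comm_E n hk ke hm, mul_assoc, ← mul_assoc, mm, one_mul]

theorem no_pair (n : N0 T U e) {x y : G} (hx : x ∈ T) (hy : y ∈ T) (xx : x * x = 1) (yy : y * y = 1)
    (c : y * x = x * y) (ex : cm x e = z) (ey : cm y e = u) : False := by
  rcases h.e16 x hx y hy xx yy c (fun h1 => h.z1 (ex.symm.trans (h.cm_U n h1))) with h1 | h1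
  · exact h.u1 (ey.symm.trans (h.cm_U n h1))
  · exact h.zu1 (by rw [← h.zu, ← ex, ← ey, ← h.cm_mul n hy hx, h.cm_U n h1])

variable (h' : Half T U B A C u z r)
include h'

theorem comm_mem {a b : G} (ha : a ∈ A) (hb : b ∈ B) :
    a * b * a⁻¹ * b⁻¹ ∈ A ∧ a * b * a⁻¹ * b⁻¹ ∈ B :=
  ⟨by simpa only [mul_assoc] using mul_mem ha (h.An b (h'.AT hb) _ (inv_mem ha)),
    mul_mem (h'.An a (h.AT ha) b hb) (inv_mem hb)⟩

theorem AB_sq {i : G} (ha : i ∈ A) (hb : i ∈ B) : i * i = 1 :=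
  (h.Asq i ha).elim id fun e => (h'.Asq i hb).elim id fun e' => absurd (e'.symm.trans e) h.uz

theorem AB_E (n : N0 T U e) (eA : e ∈ A) (eB : e ∈ B) {i : G} (ha : i ∈ A) (hb : i ∈ B) :
    i ∈ U ∨ i * e ∈ U := by
  refine h.e16 e n.eT i (h.AT ha) n.ee (h.AB_sq h' ha hb) (mul_inv_eq_iff_eq_mul.1 ?_) n.nU
  exact (h.Ac i ha e eA).elim id fun e1 => (h'.Ac i hb e eB).elim id fun e2 =>
    absurd (mul_right_cancel (e2.symm.trans e1)) h.uz

theorem n0_of_mem (eA : e ∈ A) (eB : e ∈ B) (nU : e ∉ U) : N0 T U e := by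
  have ee := h.AB_sq h' eA eB
  refine ⟨h.AT eA, ee, nU, fun t ht => ?_⟩
  have h1 := h.An t ht e eA
  have h2 := h'.An t ht e eB
  refine (h.e16 e (h.AT eA) _ (h.AT h1) ee (h.AB_sq h' h1 h2) (mul_inv_eq_iff_eq_mul.1 ?_)
    nU).resolve_left fun h3 => nU ?_
  · exact (h.Ac _ h1 e eA).elim id fun e1 => (h'.Ac _ h2 e eB).elim id fun e2 =>
      absurd (mul_right_cancel (e2.symm.trans e1)) h.uz
  · have := h.cjU (inv_mem ht) h3
    rwa [← this, show t⁻¹ * (t * e * t⁻¹) * t⁻¹⁻¹ = e by group] at h3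

omit h' in
theorem cm_s_mem (n : N0 T U e) (eA : e ∈ A) : cm s e ∈ U := by
  rcases h.sA e eA with e1 | e1
  · rw [cm, e1, n.ee]; exact one_mem _
  · rw [cm_of_conj n.ee e1]; exact h.zU

/-- commutators with an involution not centralising `e` -/
theorem comm_U (n : N0 T U e) (eA : e ∈ A) (eB : e ∈ B) {x b : G} (hx : x ∈ A) (hb : b ∈ B)
    (xx : x * x = 1) (xe : cm x e ≠ 1) : x * b * x⁻¹ * b⁻¹ ∈ U := by
  obtain ⟨h1, h2⟩ := h.comm_mem h' hx hb
  refine (h.AB_E h' n eA eB h1 h2).resolve_right fun h3 => xe ?_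
  have pp := h.AB_sq h' h1 h2
  rw [← h.cm_of_mem n.eT n.ee (h.AT hx) h3, cm, mul_eq_one_iff_eq_inv]
  calc _ = (x * x) * (b * (x * x)⁻¹ * x * b⁻¹ * x⁻¹) := by group
    _ = _ := by rw [xx]; group

theorem lemL (n : N0 T U e) (eA : e ∈ A) (eB : e ∈ B) (on : ∀ y ∈ U, ∃ t ∈ T, cm t e = y) :
    ∀ a ∈ A, a * e = e * a → a ∈ U ∨ a * e ∈ U := by
  have hr := h'.cm_s_mem n eB
  have e0 : cm e e = 1 := (cm_eq_one n.ee).2 rfl
  obtain ⟨x, hx, xx, ex⟩ : ∃ x ∈ A, x * x = 1 ∧ cm x e = z := by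
    obtain ⟨a, ha, ae⟩ := h.g0 n (h.cm_s_mem n eA) on
    have h1 := (h.Ac a ha e eA).resolve_left fun e1 => ae (mul_inv_eq_iff_eq_mul.1 e1)
    rcases h.Asq a ha with aa | aa
    · exact ⟨a, ha, aa, cm_of_conj n.ee h1⟩
    · refine ⟨a * e, mul_mem ha eA, ?_, by
        rw [h.cm_mul n (h.AT ha) n.eT, e0, mul_one, cm_of_conj n.ee h1]⟩
      calc _ = a * e * a⁻¹ * (a * a * e) := by group
        _ = 1 := by rw [h1, aa, h.sq_mul n.eT h.zU, n.ee]
  have xT := h.AT hx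
  have xe := conj_of_cm n.ee ex
  obtain ⟨m, hm, em⟩ : ∃ m ∈ B, r * x * r⁻¹ = m * x := ⟨_, h'.sm x xT, by group⟩
  have mT := h'.AT hm
  have me : cm m e = u := by
    have := h'.cm_s n hr xT
    rw [em, h.cm_mul n mT xT, ex, h'.su] at this
    exact mul_right_cancel this
  have xm0 : x * m * x⁻¹ = m⁻¹ := by
    rw [eq_inv_iff_mul_eq_one, inv_eq_of_mul_eq_one_right xx, ← mul_eq_one_comm, ← mul_assoc,
      ← mul_assoc, mul_assoc (m * x), ← em, conj_mul, xx]
    simp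
  have mm : m * m = u := (h'.Asq m hm).resolve_left fun mm => h.no_pair n xT mT xx mm
    (mul_inv_eq_iff_eq_mul.1 (xm0.trans (inv_eq_of_mul_eq_one_right mm))).symm ex me
  have xm : x * m * x⁻¹ = u * m := by
    rw [xm0, inv_eq_of_mul_eq_one_left (show u * m * m = 1 by rw [mul_assoc, mm, h.uu])]
  have me' := conj_of_cm n.ee me
  have yy : m * e * (m * e) = 1 := by
    calc _ = m * e * m⁻¹ * (m * m * e) := by group
      _ = 1 := by rw [me', mm, h.sq_mul n.eT h.uU, n.ee]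
  have yB := mul_mem hm eB
  have ye : cm (m * e) e = u := by rw [h.cm_mul n mT n.eT, e0, me, mul_one]
  have key : ∀ a ∈ A, a * e = e * a → a * x = x * a → a * a = z → False := fun a ha ae ax aa => by
    have aT := h.AT ha
    have ae' := (cm_eq_one n.ee).2 ae
    obtain ⟨b, hb, eb⟩ : ∃ b ∈ B, r * a * r⁻¹ = b * a := ⟨_, h'.sm a aT, by group⟩
    have bT := h'.AT hb
    have be : b * e = e * b := by
      have := h'.cm_s n hr aT
      rw [eb, h.cm_mul n bT aT, ae', mul_one, mul_one, mul_inv_cancel] at this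
      exact (cm_eq_one n.ee).1 this
    have ba : b * a * (b * a) = u * z := by rw [← eb, conj_mul, aa, h'.su]
    have bb : b * b = u := (h'.Asq b hb).resolve_left fun bb => h.u1 (mul_eq_right.1 (by
      rw [← ba, h.sq_E n aT ae (h.e16 e n.eT b bT n.ee bb be n.nU), aa]))
    have ab : a * b = b * a := by
      obtain ⟨h1, h2⟩ := h.comm_mem h' ha hb
      have h3 := h.comm_E n bT be (h.AB_E h' n eA eB h1 h2)
      have h4 : b * a * (b * a) = b * (a * b * a⁻¹ * b⁻¹) * b * (a * a) := by group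
      rw [ba, h3, aa, mul_assoc _ b b, bb, mul_left_inj, eq_comm, mul_eq_right] at h4
      exact mul_inv_eq_iff_eq_mul.1 (mul_inv_eq_one.1 h4)
    obtain ⟨b, hb, be, bb, ab, bm⟩ : ∃ b ∈ B, b * e = e * b ∧ b * b = u ∧ a * b = b * a ∧
        b * m * b⁻¹ = m := by
      rcases h'.Ac b hb m hm with h1 | h1
      · exact ⟨b, hb, be, bb, ab, h1⟩
      refine ⟨b * e, mul_mem hb eB, by rw [← mul_assoc, ← be], ?_, by
        rw [← mul_assoc, ab, mul_assoc, ae, mul_assoc], ?_⟩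
      · rw [mul_assoc, ← mul_assoc e, ← be, mul_assoc, n.ee, mul_one, bb]
      · calc _ = b * (e * m * e⁻¹) * b⁻¹ := by group
          _ = m := by
            rw [h.swapc n.eT h.uU me', ← conj_mul, h.cjU bT h.uU, h1, ← mul_assoc, h.uu, one_mul]
    have bT := h'.AT hb
    have bm' := mul_inv_eq_iff_eq_mul.1 bm
    obtain ⟨p, hp, ep⟩ : ∃ p ∈ U, x * b * x⁻¹ = p * b :=
      ⟨_, h.comm_U h' n eA eB hx hb xx (ex ▸ h.z1), by group⟩
    have hp' : p = 1 ∨ p = u := by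
      refine h'.fixU hp ?_
      have h1 : r * (x * b * x⁻¹) * r⁻¹ = m * (x * (r * b * r⁻¹) * x⁻¹) * m⁻¹ := by
        calc _ = r * x * r⁻¹ * (r * b * r⁻¹) * (r * x * r⁻¹)⁻¹ := by group
          _ = _ := by rw [em]; group
      have h2 : m * (p * b) * m⁻¹ = p * b := by
        rw [← conj_mul, h.cjU mT hp, conj_of_comm bm'.symm]
      rw [ep, ← conj_mul] at h1
      rcases h'.sA b hb with h3 | h3 <;> rw [h3] at h1
      · rw [ep, h2] at h1; exact mul_right_cancel h1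
      · rw [h.cjm xT h.uU, ep, h.cjm mT h.uU, h2, ← mul_assoc, ← mul_assoc,
          ← h.el.comm hp h.uU] at h1
        exact mul_right_cancel (mul_right_cancel h1)
    obtain ⟨q, hq, eq⟩ : ∃ q ∈ U, m * e * a * (m * e)⁻¹ = q * a :=
      ⟨_, h'.comm_U h n eB eA yB ha yy (ye ▸ h.u1), by group⟩
    have hq' : q = 1 ∨ q = z := by
      refine h.fixU hq ?_
      obtain ⟨k, hk, ek⟩ : ∃ k ∈ A, s * (m * e) * s⁻¹ = k * (m * e) := ⟨_, h.sm _ (h'.AT yB), by group⟩
      have h0 : k * x ∈ C := by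
        have h1 := mul_mem (mul_mem ((h.sC _).2 yB) ((h'.sC _).2 hx)) (h.ABC h'.UA
          (h.An _ (inv_mem xT) e eA) (h'.An _ (inv_mem xT) e eB))
        rw [ek, em] at h1
        convert h1 using 1
        calc _ = k * (m * e * (m * e)) * x := by rw [yy, mul_one]
          _ = _ := by group
      have ak := h.comm_E n aT ae (h.AB_E h' n eA eB (mul_mem hk hx) (h.AC h'.UA (mul_mem hk hx) h0))
      rw [mul_assoc, ← ax, ← mul_assoc, ← mul_assoc, mul_left_inj] at ak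
      have h1 : s * (m * e * a * (m * e)⁻¹) * s⁻¹ = k * (m * e * (s * a * s⁻¹) * (m * e)⁻¹) * k⁻¹ := by
        calc _ = s * (m * e) * s⁻¹ * (s * a * s⁻¹) * (s * (m * e) * s⁻¹)⁻¹ := by group
          _ = _ := by rw [ek]; group
      have h2 : k * (q * a) * k⁻¹ = q * a := by
        rw [← conj_mul, h.cjU (h.AT hk) hq, conj_of_comm ak.symm]
      rw [eq, ← conj_mul] at h1
      rcases h.sA a ha with h3 | h3 <;> rw [h3] at h1
      · rw [eq, h2] at h1; exact mul_right_cancel h1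
      · rw [h.cjm (h'.AT yB) h.zU, eq, h.cjm (h.AT hk) h.zU, h2, ← mul_assoc,
          ← mul_assoc, ← h.el.comm hq h.zU] at h1
        exact mul_right_cancel (mul_right_cancel h1)
    have X2 : x * e * a * (x * e * a) = 1 := by
      calc _ = x * e * x⁻¹ * (x * (a * x)) * (e * a) := by group
        _ = x * e * x⁻¹ * (x * x) * (a * e) * a := by rw [ax]; group
        _ = z * e * e * (a * a) := by rw [xe, xx, ae]; group
        _ = 1 := by rw [mul_assoc z, n.ee, aa, mul_one, h.zz]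
    have XT := mul_mem (mul_mem xT n.eT) aT
    have Xe : cm (x * e * a) e = z := by
      rw [h.cm_mul n (mul_mem xT n.eT) aT, h.cm_mul n xT n.eT, e0, ae', ex, mul_one, mul_one]
    have Y2 : m * b * (m * b) = 1 := by
      rw [mul_assoc, ← mul_assoc b, bm', mul_assoc, ← mul_assoc, mm, bb, h.uu]
    have Ye : cm (m * b) e = u := by rw [h.cm_mul n mT bT, (cm_eq_one n.ee).2 be, me, mul_one]
    have mx := h.swapc mT h.uU xm
    rcases hp' with rfl | rfl
    swap
    · refine h.no_pair n xT (mul_mem mT bT) xx Y2 (mul_inv_eq_iff_eq_mul.1 ?_).symm ex Ye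
      rw [← conj_mul, xm, ep, mul_assoc, h.mv mT h.uU, ← mul_assoc, h.uu, one_mul]
    have ma : m * a * m⁻¹ = q * a := by
      rw [← eq, mul_assoc m e, ← ae]; group
    rcases hq' with rfl | rfl
    · refine h.no_pair n XT (mul_mem mT bT) X2 Y2 (mul_inv_eq_iff_eq_mul.1 ?_) Xe Ye
      calc _ = m * (b * x * b⁻¹ * (b * e * b⁻¹) * (b * a * b⁻¹)) * m⁻¹ := by group
        _ = _ := by
          rw [h.swapc bT hp ep, one_mul, conj_of_comm be, conj_of_comm ab.symm, ← conj_mul, ← conj_mul,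
            mx, me', ma, one_mul, mul_assoc u, h.mv xT h.uU, ← mul_assoc u, h.uu, one_mul]
    · refine h.no_pair n XT (h'.AT yB) X2 yy (mul_inv_eq_iff_eq_mul.1 ?_) Xe ye
      calc _ = m * (e * x * e⁻¹) * m⁻¹ * (m * e * m⁻¹) * (m * e * a * (m * e)⁻¹) := by group
        _ = _ := by
          rw [h.swapc n.eT hq xe, ← conj_mul, h.cjU mT hq, mx, me', eq]
          simp only [mul_assoc, h.mv xT h.uU, h.mv xT hq, h.mv n.eT hq, h.mv (h.UT h.uU) hq]
          rw [← mul_assoc q, h.zz, one_mul, ← mul_assoc u, h.uu, one_mul]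
  intro a ha ae
  by_contra! hn
  have aa := (h.Asq a ha).resolve_left fun aa =>
    (h.e16 e n.eT a (h.AT ha) n.ee aa ae n.nU).elim hn.1 hn.2
  rcases h.Ac x hx a ha with h1 | h1
  · exact key a ha ae (mul_inv_eq_iff_eq_mul.1 h1).symm aa
  · refine key (a * e) (mul_mem ha eA) (by rw [← mul_assoc, ← ae]) (mul_inv_eq_iff_eq_mul.1 ?_).symm
      (by rw [mul_assoc, ← mul_assoc e, ← ae, mul_assoc, n.ee, mul_one, aa])
    rw [← conj_mul, h1, xe, mul_assoc, h.mv (h.AT ha) h.zU, ← mul_assoc, h.zz, one_mul]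

end CfsgLib.Rk3.Half
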