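import Cfsg.Agent.Lib.Rk3.B1

/-!
The triangle of normal subgroups of `T`: the case `A ∩ B = U`, and the conclusion.
-/

set_option autoImplicit false

namespace CfsgLib.Rk3.Half

open Subgroup Cfsg CfsgLib.Tech CfsgLib.W2

variable {G : Type*} [Group G] {T U A B C : Subgroup G} {z u s r e : G}
  (h : Half T U A B C z u s) (h' : Half T U B A C u z r) (hI : ∀ i ∈ A, i ∈ B → i ∈ U)
include h h' hI

theorem r_not {x : G} (hx : x ∈ A) (xU : x ∉ U) {m : G} (em : r * x * r⁻¹ = m * x) :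
    m ∉ U ∧ m * x ∉ U := by
  have h1 : m * x ∉ U := fun h1 => xU (by rw [← h'.back x, em]; exact h'.sU h1)
  refine ⟨fun h2 => h1 ?_, h1⟩
  have h3 := mul_mem (h.UA h2) hx
  exact hI _ h3 (h.AC h'.UA h3 (em ▸ (h'.sC x).2 hx))

/-- the `A`-component of `s m s⁻¹` -/
theorem diag {x m k : G} (hx : x ∈ A) (hm : m ∈ B) (hk : k ∈ A) (em : r * x * r⁻¹ = m * x)
    (ek : s * m * s⁻¹ = k * m) : k * x⁻¹ ∈ U := by
  obtain ⟨h1, h2⟩ := h.comm_mem h' hx hm
  have h3 := mul_mem (mul_mem ((h.sC _).2 hm) (inv_mem ((h'.sC _).2 hx)))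
    (h.ABC h'.UA h1 h2)
  rw [ek, em, show k * m * (m * x)⁻¹ * (x * m * x⁻¹ * m⁻¹) = k * (m * x⁻¹ * m⁻¹ *
    (x * m * x⁻¹ * m⁻¹)) by group, h.cU _ (mul_mem (mul_mem (h'.AT hm) (inv_mem (h.AT hx)))
    (inv_mem (h'.AT hm))) _ (hI _ h1 h2), show k * (x * m * x⁻¹ * m⁻¹ * (m * x⁻¹ * m⁻¹)) =
    k * x⁻¹ * (x * x * (m * (x * x)⁻¹ * m⁻¹)) by group] at h3
  have h4 : x * x ∈ U := by
    rcases h.Asq x hx with e | e <;> rw [e]
    exacts [one_mem _, h.zU]
  rw [h.cjU (h'.AT hm) (inv_mem h4), mul_inv_cancel, mul_one] at h3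
  have h5 := mul_mem hk (inv_mem hx)
  exact hI _ h5 (h.AC h'.UA h5 h3)

theorem sq_z {x : G} (hx : x ∈ A) (xU : x ∉ U) : x * x = z := by
  refine (h.Asq x hx).resolve_left fun xx => ?_
  have xT := h.AT hx
  obtain ⟨m, hm, em⟩ : ∃ m ∈ B, r * x * r⁻¹ = m * x := ⟨_, h'.sm x xT, by group⟩
  have mT := h'.AT hm
  have mx : m * x * (m * x) = 1 := by rw [← em, conj_mul, xx]; simp
  have xm0 : x * m * x⁻¹ = m⁻¹ := by
    rw [eq_inv_iff_mul_eq_one, inv_eq_of_mul_eq_one_right xx, ← mul_eq_one_comm, ← mul_assoc,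
      ← mul_assoc, mul_assoc (m * x), mx]
  obtain ⟨h1, h2⟩ := h.r_not h' hI hx xU em
  have mm : m * m = u := (h'.Asq m hm).resolve_left fun mm => (h.e16 x xT m mT xx mm
    (mul_inv_eq_iff_eq_mul.1 (xm0.trans (inv_eq_of_mul_eq_one_right mm))).symm xU).elim h1 h2
  obtain ⟨k, hk, ek⟩ : ∃ k ∈ A, s * m * s⁻¹ = k * m := ⟨_, h.sm m mT, by group⟩
  refine h.zu1 ?_
  rw [← h.su, ← mm, ← conj_mul, ek, show k * m = k * x⁻¹ * (x * m) by group,
    h.sq_mul (mul_mem xT mT) (h.diag h' hI hx hm hk em ek)]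
  calc _ = x * m * x⁻¹ * (x * x) * m := by group
    _ = 1 := by rw [xm0, xx]; simp

theorem theta {x : G} (hx : x ∈ A) (xU : x ∉ U) {m : G} (hm : m ∈ B) (em : r * x * r⁻¹ = m * x) :
    m * m = u ∧ x * m = m * x := by
  have mm := h'.sq_z h (fun i h1 h2 => hI i h2 h1) hm (h.r_not h' hI hx xU em).1
  refine ⟨mm, ?_⟩
  obtain ⟨h1, h2⟩ := h.comm_mem h' hx hm
  have h4 : m * x * (m * x) = m * (x * m * x⁻¹ * m⁻¹) * m * (x * x) := by group
  rw [← em, conj_mul, h.sq_z h' hI hx xU, h'.su, h.cU m (h'.AT hm) _ (hI _ h1 h2), mul_assoc _ m m,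
    mm, mul_left_inj, eq_comm, mul_eq_right] at h4
  exact mul_inv_eq_iff_eq_mul.1 (mul_inv_eq_one.1 h4)

omit h' hI in
theorem anti {y a b : G} (yy : y * y = 1) (c : Cz y a b) (aa : a * a = y) (bb : b * b = y)
    (ab : a * b * (a * b) = y) (y1 : y ≠ 1) : a * b * a⁻¹ = y * b := c.resolve_left fun e => y1 (by
  rw [← ab, ← yy, ← aa, ← bb.trans aa.symm]
  calc _ = a * b * a⁻¹ * (a * a) * b := by group
    _ = b * (b * b) * b := by rw [e, aa, bb]
    _ = _ := by group)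

theorem two_cosets {x y : G} (hx : x ∈ A) (hy : y ∈ A) (xU : x ∉ U) (yU : y ∉ U) : x * y ∈ U := by
  by_contra xy
  have xT := h.AT hx
  have yT := h.AT hy
  have xx := h.sq_z h' hI hx xU
  have yy := h.sq_z h' hI hy yU
  have c1 := h.anti h.zz (h.Ac x hx y hy) xx yy (h.sq_z h' hI (mul_mem hx hy) xy) h.z1
  obtain ⟨m, hm, em⟩ : ∃ m ∈ B, r * x * r⁻¹ = m * x := ⟨_, h'.sm x xT, by group⟩
  obtain ⟨n, hn, en⟩ : ∃ m ∈ B, r * y * r⁻¹ = m * y := ⟨_, h'.sm y yT, by group⟩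
  have mT := h'.AT hm
  have nT := h'.AT hn
  obtain ⟨mm, xm⟩ := h.theta h' hI hx xU hm em
  obtain ⟨nn, yn⟩ := h.theta h' hI hy yU hn en
  obtain ⟨p, hp, ep⟩ : ∃ p ∈ U, x * n * x⁻¹ = p * n :=
    ⟨_, hI _ (h.comm_mem h' hx hn).1 (h.comm_mem h' hx hn).2, by group⟩
  obtain ⟨q, hq, eq⟩ : ∃ q ∈ U, y * m * y⁻¹ = q * m :=
    ⟨_, hI _ (h.comm_mem h' hy hm).1 (h.comm_mem h' hy hm).2, by group⟩
  obtain ⟨h1, h2⟩ := h.theta h' hI (mul_mem hx hy) xy (mul_mem (h'.UA hp) (mul_mem hm hn)) (by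
    rw [← conj_mul, em, en, ← h.mv mT hp, ← ep]; group)
  rw [h.sq_mul (mul_mem mT nT) hp] at h1
  have c2 := h.anti h.uu (h'.Ac m hm n hn) mm nn h1 h.u1
  have pq : q = p := by
    rw [← mul_inv_eq_iff_eq_mul, h.cjm (mul_mem xT yT) hp, mul_right_inj,
      show x * y * (m * n) * (x * y)⁻¹ = x * (y * m * y⁻¹ * (y * n * y⁻¹)) * x⁻¹ by group, eq,
      conj_of_comm yn, mul_assoc q, h.cjm xT hq, ← conj_mul, conj_of_comm xm, ep, h.mv mT hp,
      ← mul_assoc, mul_eq_right] at h2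
    rw [eq_inv_of_mul_eq_one_left h2, inv_eq_of_mul_eq_one_right (h.el p hp)]
  subst pq
  have r1 : r * q * r⁻¹ = u * q := by
    have h3 : r * (x * n * x⁻¹) * r⁻¹ = m * (x * (r * n * r⁻¹) * x⁻¹) * m⁻¹ := by
      calc _ = r * x * r⁻¹ * (r * n * r⁻¹) * (r * x * r⁻¹)⁻¹ := by group
        _ = _ := by rw [em]; group
    rw [ep, ← conj_mul] at h3
    rcases h'.sA n hn with h4 | h4 <;> rw [h4] at h3
    · rw [ep, h.cjm mT hp, c2, ← mul_assoc, h.el.comm hp h.uU] at h3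
      exact mul_right_cancel h3
    · rw [h.cjm xT h.uU, ep, h.cjm mT h.uU, h.cjm mT hp, c2, ← mul_assoc u] at h3
      exact mul_right_cancel h3
  have s1 : s * q * s⁻¹ = z * q := by
    obtain ⟨k, hk, ek⟩ : ∃ k ∈ A, s * n * s⁻¹ = k * n := ⟨_, h.sm n nT, by group⟩
    have h3 := h.diag h' hI hy hn hk en ek
    have h4 : x * (k * n) * x⁻¹ = z * q * (k * n) := by
      rw [← conj_mul, ep, ← inv_mul_cancel_right k y, h.cjm xT h3, c1]
      generalize k * y⁻¹ = i at h3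
      simp only [mul_assoc, h.mv yT hp, h.mv (h.UT h3) hp, h.mv (h.UT h3) h.zU]
    have h5 : s * (x * n * x⁻¹) * s⁻¹ = s * x * s⁻¹ * (k * n) * (s * x * s⁻¹)⁻¹ := by
      rw [← ek]; group
    rw [ep, ← conj_mul, ek] at h5
    rcases h.sA x hx with h6 | h6 <;> rw [h6] at h5
    · exact mul_right_cancel (h5.trans h4)
    · rw [show z * x * (k * n) * (z * x)⁻¹ = z * (x * (k * n) * x⁻¹) * z⁻¹ by group,
        ← h.cU _ (mul_mem (mul_mem xT (mul_mem (h.AT hk) nT)) (inv_mem xT)) z h.zU,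
        mul_inv_cancel_right, h4] at h5
      exact mul_right_cancel h5
  have hq' : q = z * u := by
    rcases (h.mU q).1 hp with e | e | e | e
    · rw [e] at s1; exact absurd (by simpa using s1.symm) h.z1
    · rw [e, h.sz, h.zz] at s1; exact absurd s1 h.z1
    · rw [e, h'.sz, h.uu] at r1; exact absurd r1 h.u1
    · exact e
  have c3 := h.swapc nT h.uU c2
  have cz := fun w => (show z * (z * w) = w by rw [← mul_assoc, h.zz, one_mul])
  have cu := fun w => (show u * (u * w) = w by rw [← mul_assoc, h.uu, one_mul])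
  have uz := h.mv (h.UT h.uU) h.zU
  have X2 : x * n * (x * n) = 1 := by
    calc _ = x * n * x⁻¹ * (x * x * n) := by group
      _ = 1 := by
        rw [ep, xx, hq']
        simp only [mul_assoc, h.mv nT h.zU, uz, cz, nn, h.uu]
  have Y2 : y * (m * n) * (y * (m * n)) = 1 := by
    calc _ = y * m * y⁻¹ * (y * n * y⁻¹) * (y * y * (m * n)) := by group
      _ = z * (z * (u * (m * n * (m * n)))) := by
        rw [eq, conj_of_comm yn, yy, hq']
        simp only [mul_assoc, h.mv nT h.zU, h.mv mT h.zU, uz]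
      _ = 1 := by rw [h1, cz, h.uu]
  have XY : x * n * (y * (m * n)) * (x * n)⁻¹ = y * (m * n) := by
    calc _ = x * (n * y * n⁻¹ * (n * m * n⁻¹) * n) * x⁻¹ := by group
      _ = x * y * x⁻¹ * (x * (u * m) * x⁻¹) * (x * n * x⁻¹) := by
        rw [conj_of_comm yn.symm, c3]; group
      _ = _ := by
        rw [c1, h.cjm xT h.uU, conj_of_comm xm, ep, hq']
        simp only [mul_assoc, h.mv mT h.zU, h.mv mT h.uU, h.mv yT h.zU, h.mv yT h.uU, uz, cz, cu]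
  rcases h.e16 _ (mul_mem xT nT) _ (mul_mem yT (mul_mem mT nT)) X2 Y2
    (mul_inv_eq_iff_eq_mul.1 XY).symm (fun h3 => xU (hI x hx
      ((mul_mem_cancel_right hn).1 (h'.UA h3)))) with h3 | h3
  · exact yU (hI y hy ((mul_mem_cancel_right (mul_mem hm hn)).1 (h'.UA h3)))
  · have h4 := h'.UA h3
    rw [show y * (m * n) * (x * n) = y * (m * n) * y⁻¹ * (y * x * n) by group,
      mul_mem_cancel_left (h'.An y yT _ (mul_mem hm hn)), mul_mem_cancel_right hn] at h4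
    have h5 := hI _ (mul_mem hy hx) h4
    exact xy (by rwa [← h.cjU xT h5, show x * (y * x) * x⁻¹ = x * y by group] at h5)

theorem cen_le (n : N0 T U e) (hs : cm s e ∈ U) (on : ∀ y ∈ U, ∃ t ∈ T, cm t e = y) :
    ∀ a ∈ A, a * e = e * a → a ∈ U ∨ a * e ∈ U := fun a ha ae => by
  left
  by_contra aU
  obtain ⟨w, hw, we⟩ := h.g0 n hs on
  have h1 := h.two_cosets h' hI ha hw aU fun h1 => we (h.cU e n.eT w h1).symm
  refine we ?_
  have := h.cU e n.eT _ h1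
  rw [← mul_assoc, ← ae, mul_assoc, mul_assoc] at this
  exact (mul_left_cancel this).symm

/-- the choice of an invariant `E` -/
theorem exists_inv (n : N0 T U e) (hs : cm s e ∈ U) (on : ∀ y ∈ U, ∃ t ∈ T, cm t e = y) :
    ∃ e', N0 T U e' ∧ cm s e' ∈ U ∧ cm r e' ∈ U := by
  by_cases hr : cm r e ∈ U
  · exact ⟨e, n, hs, hr⟩
  have hI' := fun i h1 h2 => hI i h2 h1
  have ei := inv_eq_of_mul_eq_one_right n.ee
  obtain ⟨w, hw, we⟩ := h.g0 n hs on
  have wU : w ∉ U := fun h1 => we (h.cU e n.eT w h1).symm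
  have wT := h.AT hw
  have ww := h.sq_z h' hI hw wU
  obtain ⟨m, hm, em⟩ : ∃ m ∈ B, r * w * r⁻¹ = m * w := ⟨_, h'.sm w wT, by group⟩
  obtain ⟨mm, wm⟩ := h.theta h' hI hw wU hm em
  have mT := h'.AT hm
  have kB : cm r e ∈ B := by simpa only [ei] using h'.sm e n.eT
  have km := h'.two_cosets h hI' kB hm hr (h.r_not h' hI hw wU em).1
  have re := conj_of_cm n.ee (rfl : cm r e = _)
  generalize cm r e = k at hr kB km re
  have ek : e * k * e⁻¹ = k⁻¹ := by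
    rw [eq_inv_iff_mul_eq_one, ei, ← mul_eq_one_comm, ← mul_assoc, ← mul_assoc, mul_assoc (k * e),
      ← re, conj_mul, n.ee]
    simp
  have em' : e * m * e⁻¹ = u * m := by
    have h1 := h.cjU n.eT km
    rw [← conj_mul, ek, inv_mul_eq_iff_eq_mul, ← mul_assoc, h'.sq_z h hI' kB hr] at h1
    exact h1
  obtain ⟨j, hj, ej⟩ : ∃ j ∈ A, s * m * s⁻¹ = j * m := ⟨_, h.sm m mT, by group⟩
  have jw := h.diag h' hI hw hm hj em ej
  have ew : e * w * e⁻¹ = z * w := by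
    have h1 : s * (e * m * e⁻¹) * s⁻¹ = cm s e * (e * (j * m) * e⁻¹) * (cm s e)⁻¹ := by
      calc _ = s * e * s⁻¹ * (s * m * s⁻¹) * (s * e * s⁻¹)⁻¹ := by group
        _ = _ := by rw [ej, conj_of_cm n.ee (rfl : cm s e = _)]; group
    rw [← h.cU _ (mul_mem (mul_mem n.eT (mul_mem (h.AT hj) mT)) (inv_mem n.eT)) _ hs,
      mul_inv_cancel_right, em', ← conj_mul, h.su, ej, ← conj_mul, em', ← inv_mul_cancel_right j w,
      h.cjm n.eT jw] at h1
    generalize j * w⁻¹ = i at h1 jw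
    rw [mul_assoc, mul_assoc, mul_assoc i, h.mv (mul_mem (mul_mem n.eT wT) (inv_mem n.eT)) h.uU,
      ← h.mv (h.UT jw) h.uU, ← h.mv (h.UT jw) h.zU, mul_right_inj, ← h.mv (h.UT h.uU) h.zU,
      mul_right_inj, ← mul_assoc] at h1
    exact (mul_right_cancel h1).symm
  have ee' : w * e * (w * e) = 1 := by
    calc _ = w * (e * w * e⁻¹) * (e * e) := by group
      _ = 1 := by rw [ew, n.ee, mul_one, h.mv wT h.zU, ww, h.zz]
  have key : ∀ t a b, t * w * t⁻¹ = a * w → t * e * t⁻¹ = b * e → a * (w * b * w⁻¹) ∈ U →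
      cm t (w * e) ∈ U := fun t a b h1 h2 h3 => by
    rw [cm_of_conj ee' (y := a * (w * b * w⁻¹)) (by rw [← conj_mul, h1, h2]; group)]
    exact h3
  have key2 : ∀ t, t * w * t⁻¹ ∈ A → t * w * t⁻¹ ∉ U → cm t e ∈ U → cm t (w * e) ∈ U :=
    fun t h1 h2 h3 => key t (t * w * t⁻¹ * w⁻¹) _ (by group) (conj_of_cm n.ee rfl) (by
      rw [h.cjU wT h3]
      exact mul_mem (h.two_cosets h' hI h1 (inv_mem hw) h2 fun h4 => wU (inv_mem_iff.1 h4)) h3)
  refine ⟨w * e, ⟨mul_mem wT n.eT, ee', fun h1 => ?_, fun t ht => key2 t (h.An t ht w hw)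
    (fun h1 => wU ?_) (n.nm t ht)⟩, key2 s (h.sA' hw) (fun h1 => wU ?_) hs, key r m k em re ?_⟩
  · exact h.z1 ((h.sq_z h' hI ((mul_mem_cancel_left hw).1 (h.UA h1)) n.nU).symm.trans n.ee)
  · have := h.cjU (inv_mem ht) h1
    rwa [← this, show t⁻¹ * (t * w * t⁻¹) * t⁻¹⁻¹ = w by group] at h1
  · rw [← h.back w]; exact h.sU h1
  · have h1 : w * k * w⁻¹ = k := by
      rw [← mul_inv_cancel_right k m, h.cjm wT km, ← conj_inv, conj_of_comm wm]
    have h2 := h.cjU mT km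
    rw [h1, show m * k = m * (k * m) * m⁻¹ by group, h2]
    exact km

omit hI in
theorem main (pg : IsPGroup 2 T)
    (on : ∀ e, N0 T U e → cm s e ∈ U → ∀ y ∈ U, ∃ t ∈ T, cm t e = y) (n : N0 T U e)
    (hs : cm s e ∈ U) :
    ∃ e', N0 T U e' ∧ cm s e' ∈ U ∧ ∀ k ∈ T, k * e' = e' * k → k ∈ U ∨ k * e' ∈ U := by
  by_cases hI : ∀ i ∈ A, i ∈ B → i ∈ U
  · obtain ⟨e', n', h1, h2⟩ := h.exists_inv h' hI n hs (on e n hs)
    exact ⟨e', n', h1, fun k hk => h.fin h' pg n' h1 h2 (on e' n' h1)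
      (h.cen_le h' hI n' h1 (on e' n' h1))
      (h'.cen_le h (fun i h1 h2 => hI i h2 h1) n' h2 (on e' n' h1)) hk⟩
  · push Not at hI
    obtain ⟨i, hA, hB, hU⟩ := hI
    have n' := h.n0_of_mem h' hA hB hU
    have h1 := h.cm_s_mem n' hA
    exact ⟨i, n', h1, fun k hk => h.fin h' pg n' h1 (h'.cm_s_mem n' hB) (on i n' h1)
      (h.lemL h' n' hA hB (on i n' h1)) (h'.lemL h n' hB hA (on i n' h1)) hk⟩

end CfsgLib.Rk3.Half
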