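import Cfsg.Agent.Lib.Rk3.Basic

/-!
The subgroup `Ω₁ Z(S)`.
-/

set_option autoImplicit false

namespace CfsgLib.Rk3

open Subgroup Cfsg CfsgLib.Tech CfsgLib.W2

variable {G : Type*} [Group G] {S : Subgroup G}

/-- `Ω₁ Z(S)` -/
def Zc (S : Subgroup G) : Subgroup G where
  carrier := {y | y ∈ S ∧ y * y = 1 ∧ S ≤ Cx y}
  one_mem' := ⟨one_mem _, mul_one _, fun s _ => mem_Cx.2 (by simp)⟩
  mul_mem' := fun {a b} ha hb => ⟨mul_mem ha.1 hb.1, by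
    rw [mul_assoc, ← mul_assoc b, ← mem_Cx.1 (hb.2.2 ha.1), mul_assoc, hb.2.1, mul_one, ha.2.1],
    fun _ hs => Cx_comm.1 (mul_mem (Cx_comm.1 (ha.2.2 hs)) (Cx_comm.1 (hb.2.2 hs)))⟩
  inv_mem' := fun {a} ha => by rwa [inv_eq_of_mul_eq_one_right ha.2.1]

theorem el_Zc (S : Subgroup G) : El (Zc S) := fun _ ha => ha.2.1

theorem Zc_le (S : Subgroup G) : Zc S ≤ S := fun _ ha => ha.1

theorem Zc_comm {s y : G} (hs : s ∈ S) (hy : y ∈ Zc S) : s * y = y * s := mem_Cx.1 (hy.2.2 hs)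

theorem Zc_conj {n y : G} (hn : n ∈ normalizer (S : Set G)) (hy : y ∈ Zc S) : n * y * n⁻¹ ∈ Zc S :=
  ⟨conj_mem_of_mem_normalizer hn hy.1, by rw [conj_mul, hy.2.1]; simp, by
    rw [← cj_Cx, ← mem_normalizer_iff_cj.1 hn]; exact cj_mono n hy.2.2⟩

variable [Finite G]

theorem norm_Zc (S : Subgroup G) : normalizer (S : Set G) ≤ normalizer (Zc S : Set G) := fun _ hn =>
  mem_normalizer_of_forall fun _ => Zc_conj hn

theorem El.eq_V2 {A : Subgroup G} (h : El A) (h4 : Nat.card A ≤ 4) {a b : G} (ha : a ∈ A) (hb : b ∈ A)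
    (a1 : a ≠ 1) (b1 : b ≠ 1) (ba : b ≠ a) : A = V2 a b :=
  (eq_of_le_of_card_ge (V2_le.2 ⟨ha, hb⟩)
    (by rwa [card_V2 (h a ha) (h b hb) (h.comm ha hb) a1 b1 ba])).symm

theorem El.four {A : Subgroup G} (h : El A) (h4 : Nat.card A ≤ 4) {a b c : G} (ha : a ∈ A) (hb : b ∈ A)
    (a1 : a ≠ 1) (b1 : b ≠ 1) (ba : b ≠ a) (hc : c ∈ A) : c = 1 ∨ c = a ∨ c = b ∨ c = a * b :=
  (mem_V2 (h a ha) (h b hb) (h.comm ha hb)).1 (h.eq_V2 h4 ha hb a1 b1 ba ▸ hc)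

theorem El.sup_inv {A : Subgroup G} (h : El A) {t : G} (tt : t * t = 1) (hc : ∀ a ∈ A, t * a = a * t) :
    El (A ⊔ zpowers t) := fun x hx => by
  rcases (mem_sup_inv tt fun a ha => by rwa [hc a ha, mul_inv_cancel_right]).1 hx with e | e
  · exact h x e
  · have e1 := hc _ e
    rw [mul_assoc, tt, mul_one] at e1
    have e2 := h _ e
    rwa [mul_assoc, e1] at e2

end CfsgLib.Rk3
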